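import Cfsg.Agent.AF.T2

set_option autoImplicit false
set_option linter.unusedSectionVars false

namespace Cfsg.Agent.AF

open Cfsg.Agent.DT (cm nor cen cj)
open Subgroup (zpowers)

variable {G : Type*} [Group G] [Finite G] {p q : ℕ} {X : Set G}

theorem B1Aux.mem_nor_qq {K : Subgroup G} {y : G} (hy : y ∈ K) : y ∈ nor (qq K) :=
  nor_le_nor_qq K (Subgroup.le_normalizer hy)

theorem Cx.blk_of (C : Cx p q X) {L : Subgroup G} (hL : L ≠ ⊤) {y : G} (hy : y ∈ X) (hyL : y ∈ L)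
    {z : G} (hz : z ∈ th X L) (hz1 : z ≠ 1) (hc : Commute z y) :
    Blk X (sp X (cen z)) ∧ z ∈ zz (sp X (cen z)) ∧ sp X L ≤ sp X (cen z) := by
  have h1 := mem_zz.1 (C.central hL hy hyL hz hc)
  have h2 : sp X L ≤ sp X (cen z) := by
    rw [← sp_sp X L]
    exact sp_mono fun a ha => DT.mem_cen.2 (h1.2 a ha).symm
  have h3 : z ∈ zz (sp X (cen z)) :=
    mem_zz.2 ⟨qq_mono h2 hz, fun a ha => (DT.mem_cen.1 (sp_le X _ ha)).symm⟩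
  exact ⟨⟨z, h3, hz1, rfl⟩, h3, h2⟩

theorem Cx.blk_ne_top (C : Cx p q X) {K : Subgroup G} (h : Blk X K) : K ≠ ⊤ := by
  obtain ⟨z, -, hz1, e⟩ := h
  intro hK
  exact C.cen_ne_top hz1 (top_le_iff.1 (hK ▸ e ▸ sp_le X (cen z)))

theorem Blk.sp_eq {K : Subgroup G} (h : Blk X K) : sp X K = K := by
  obtain ⟨z, -, -, e⟩ := h
  rw [e, sp_sp]

theorem Blk.pt {K : Subgroup G} (h : Blk X K) : ∃ y ∈ X, y ∈ K := by
  by_contra hn
  have e := h.sp_eq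
  obtain ⟨z, hz, hz1, -⟩ := h
  have : sp X K ≤ ⊥ := sp_le_of fun y hy hyK => (hn ⟨y, hy, hyK⟩).elim
  rw [e] at this
  exact hz1 (Subgroup.mem_bot.1 (this (qq_le K hz.1)))

theorem B1Aux.th_eq {K : Subgroup G} (h : Blk X K) : th X K = qq K := congrArg qq h.sp_eq

theorem Cx.blk_pgroup (C : Cx p q X) {K : Subgroup G} (h : Blk X K) : IsPGroup q (qq K) := by
  rw [← B1Aux.th_eq h]
  exact C.th_pgroup (C.blk_ne_top h)

theorem Cx.blk_cm (C : Cx p q X) {K : Subgroup G} (h : Blk X K) {y : G} (hy : y ∈ X) (hyK : y ∈ K) :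
    cm (qq K) y = qq K := by
  rw [← B1Aux.th_eq h]
  exact C.th_cm (C.blk_ne_top h) hy hyK

theorem Cx.blk_sup (C : Cx p q X) {K : Subgroup G} (h : Blk X K) {y : G} (hy : y ∈ X)
    (hyK : y ∈ K) : qq K ⊔ zpowers y = K := by
  have := C.sp_eq (C.blk_ne_top h) hy hyK
  rwa [B1Aux.th_eq h, h.sp_eq] at this

theorem Cx.blk_nor_ne_top (C : Cx p q X) {K : Subgroup G} (h : Blk X K) : nor K ≠ ⊤ := by
  intro e
  have hq := C.blk_pgroup h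
  obtain ⟨z, hz, hz1, -⟩ := h
  refine C.nor_ne_top C.qp hq (fun hb => hz1 ?_) (top_le_iff.1 (e ▸ nor_le_nor_qq K))
  have := (mem_zz.1 hz).1
  rwa [hb, Subgroup.mem_bot] at this

theorem Cx.blk_max (C : Cx p q X) {K L : Subgroup G} (h : Blk X K) (hKL : K ≤ L) (hL : L ≠ ⊤) :
    sp X L = K := by
  obtain ⟨y, hy, hyK⟩ := h.pt
  have h1 : K ≤ sp X L := h.sp_eq.symm.trans_le (sp_mono hKL)
  obtain ⟨z, hz, hz1, e⟩ := h
  have hz' := mem_zz.1 hz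
  exact le_antisymm ((C.blk_of hL hy (hKL hyK) (qq_mono h1 hz'.1) hz1 (hz'.2 y hyK)).2.2.trans_eq e.symm) h1

theorem Cx.blk_cen (C : Cx p q X) {K : Subgroup G} (h : Blk X K) {z : G} (hz : z ∈ zz K)
    (hz1 : z ≠ 1) : sp X (cen z) = K :=
  C.blk_max h (fun a ha => DT.mem_cen.2 ((mem_zz.1 hz).2 a ha).symm) (C.cen_ne_top hz1)

theorem Cx.cen_le_nor (C : Cx p q X) {K : Subgroup G} (h : Blk X K) {z : G} (hz : z ∈ zz K)
    (hz1 : z ≠ 1) : cen z ≤ nor K := by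
  have := C.toHy.nor_le_nor_sp (cen z)
  rw [C.blk_cen h hz hz1] at this
  exact Subgroup.le_normalizer.trans this

theorem Cx.zz_iff (C : Cx p q X) {K : Subgroup G} (h : Blk X K) {y : G} (hy : y ∈ X) (hyK : y ∈ K)
    {z : G} : z ∈ zz K ↔ z ∈ qq K ∧ Commute z y := by
  refine ⟨fun e => ⟨(mem_zz.1 e).1, (mem_zz.1 e).2 y hyK⟩, fun e => ?_⟩
  have := C.central (C.blk_ne_top h) hy hyK (by rw [B1Aux.th_eq h]; exact e.1) e.2
  rwa [h.sp_eq] at this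

theorem Cx.blk_ti (C : Cx p q X) {K1 K2 : Subgroup G} (h1 : Blk X K1) (h2 : Blk X K2)
    (hne : K1 ≠ K2) {z : G} (hz1 : z ∈ zz K1) (hz2 : z ∈ zz K2) : z = 1 :=
  by_contra fun hz => hne ((C.blk_cen h1 hz1 hz).symm.trans (C.blk_cen h2 hz2 hz))

theorem Cx.blk_eq_of_le (C : Cx p q X) {K1 K2 : Subgroup G} (h1 : Blk X K1) (h2 : Blk X K2) {y : G}
    (hy : y ∈ X) (hy1 : y ∈ K1) (hy2 : y ∈ K2) (h : qq K1 ≤ qq K2) : K1 = K2 := by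
  have hle : K1 ≤ K2 := (C.blk_sup h1 hy hy1).symm.trans_le
    (sup_le (h.trans (qq_le K2)) ((Subgroup.zpowers_le).2 hy2))
  exact (C.blk_max h1 hle (C.blk_ne_top h2)).symm.trans h2.sp_eq

theorem Cx.blk_cj (C : Cx p q X) {K : Subgroup G} (h : Blk X K) (g : G) : Blk X (cj g K) := by
  obtain ⟨z, hz, hz1, e⟩ := h
  refine ⟨g * z * g⁻¹, ?_, fun h1 => hz1 (by simpa using h1), ?_⟩
  · rw [zz_cj, DT.mem_cj]
    simpa [mul_assoc] using hz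
  · rw [← cen_cj, C.toHy.sp_cj, ← e]

theorem Cx.spec_of_blk (C : Cx p q X) {K : Subgroup G} (h : Blk X K) : Spec q X := by
  refine C.h4.resolve_left fun hf => ?_
  obtain ⟨y, hy, hyK⟩ := h.pt
  have hq := C.blk_pgroup h
  have hc := C.blk_cm h hy hyK
  obtain ⟨z, hz, hz1, -⟩ := h
  exact hz1 (hf y hy (qq K) hq (B1Aux.mem_nor_qq hyK) z (by rw [hc]; exact (mem_zz.1 hz).1)
    ((mem_zz.1 hz).2 y hyK))

theorem Cx.comm_mem_zz (C : Cx p q X) {K : Subgroup G} (h : Blk X K) {a b : G} (ha : a ∈ qq K)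
    (hb : b ∈ qq K) : a * b * a⁻¹ * b⁻¹ ∈ zz K := by
  obtain ⟨y, hy, hyK⟩ := h.pt
  have hc := C.blk_cm h hy hyK
  exact (C.zz_iff h hy hyK).2 ⟨mul_mem (mul_mem (mul_mem ha hb) (inv_mem ha)) (inv_mem hb),
    C.spec_of_blk h y hy (qq K) (C.blk_pgroup h) (B1Aux.mem_nor_qq hyK) a (by rw [hc]; exact ha) b
      (by rw [hc]; exact hb)⟩

theorem Cx.inf_zz (C : Cx p q X) {K1 K2 : Subgroup G} (h1 : Blk X K1) (h2 : Blk X K2)
    (hne : K1 ≠ K2) {y : G} (hy : y ∈ X) (hy1 : y ∈ K1) (hy2 : y ∈ K2) {z : G} (hz : z ∈ zz K1)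
    (hz2 : z ∈ qq K2) : z = 1 :=
  C.blk_ti h1 h2 hne hz ((C.zz_iff h2 hy hy2).2 ⟨hz2, (mem_zz.1 hz).2 y hy1⟩)

theorem Cx.inf_comm (C : Cx p q X) {K1 K2 : Subgroup G} (h1 : Blk X K1) (h2 : Blk X K2)
    (hne : K1 ≠ K2) {y : G} (hy : y ∈ X) (hy1 : y ∈ K1) (hy2 : y ∈ K2) {a b : G}
    (ha : a ∈ qq K1 ⊓ qq K2) (hb : b ∈ qq K1 ⊓ qq K2) : Commute a b := by
  have _ := hy; have _ := hy1; have _ := hy2
  have := C.blk_ti h1 h2 hne (C.comm_mem_zz h1 ha.1 hb.1) (C.comm_mem_zz h2 ha.2 hb.2)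
  rwa [mul_inv_eq_one, mul_inv_eq_iff_eq_mul] at this

theorem Cx.inf_cm (C : Cx p q X) {K1 K2 : Subgroup G} (h1 : Blk X K1) (h2 : Blk X K2)
    (hne : K1 ≠ K2) {y : G} (hy : y ∈ X) (hy1 : y ∈ K1) (hy2 : y ∈ K2) :
    cm (qq K1 ⊓ qq K2) y = qq K1 ⊓ qq K2 := by
  have hn : y ∈ nor (qq K1 ⊓ qq K2) :=
    DT.nor_inf_le_nor_inf _ _ ⟨B1Aux.mem_nor_qq hy1, B1Aux.mem_nor_qq hy2⟩
  refine le_antisymm (DT.cm_le hn) fun r hr => ?_
  obtain ⟨a, ha, c, hc, hcy, e⟩ := DT.cop_decomp C.pp C.qp C.pq ((C.blk_pgroup h1).to_le inf_le_left)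
    (C.toHy.pow_eq hy) hn hr
  rw [e, C.inf_zz h1 h2 hne hy hy1 hy2 ((C.zz_iff h1 hy hy1).2 ⟨hc.1, hcy⟩) hc.2, mul_one]
  exact ha

theorem Cx.le_nor_of_zz_le (C : Cx p q X) {K W : Subgroup G} (h : Blk X K) (hZ : zz K ≤ W)
    (hW : W ≤ qq K) : qq K ≤ nor W := by
  refine fun g hg => Subgroup.mem_normalizer_fintype (S := (W : Set G)) fun w hw => ?_
  have e : g * w * g⁻¹ = g * w * g⁻¹ * w⁻¹ * w := by group
  rw [e]
  exact W.mul_mem (hZ (C.comm_mem_zz h hg (hW hw))) hw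

theorem Cx.not_le_sup (C : Cx p q X) {K1 K2 : Subgroup G} (h1 : Blk X K1) (h2 : Blk X K2)
    (hne : K1 ≠ K2) {y : G} (hy : y ∈ X) (hy1 : y ∈ K1) (hy2 : y ∈ K2) :
    ¬ qq K1 ≤ (qq K1 ⊓ qq K2) ⊔ zz K1 := by
  intro hle
  have hn := B1Aux.mem_nor_qq hy2
  refine hne (C.blk_eq_of_le h1 h2 hy hy1 hy2
    ((C.blk_cm h1 hy hy1).symm.trans_le (DT.cm_le_of hn fun a ha => ?_)))
  obtain ⟨w, hw, z, hz, rfl⟩ := (DT.mem_sup_nor (inf_le_left.trans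
    (C.le_nor_of_zz_le h1 le_rfl inf_le_left))).1 (hle ha)
  have e : w * z * y * (w * z)⁻¹ * y⁻¹ = w * (y * w⁻¹ * y⁻¹) := by
    rw [mul_assoc w z y, ((mem_zz.1 hz).2 y hy1).eq]; group
  rw [e]
  exact mul_mem hw.2 ((DT.mem_nor.1 hn _).1 (inv_mem hw.2))

end Cfsg.Agent.AF
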