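import Cfsg.Agent.DT.Cop
import Cfsg.Agent.DT.Cop2

/-! Project AF (S3257): definitions. Points are the elements of `X`, up to `zpowers`. -/

set_option autoImplicit false

namespace Cfsg.Agent.AF

open Cfsg.Agent.DT (cm nor cen cj)
open Subgroup (zpowers)

variable {G : Type*} [Group G]

/-- the subgroup generated by the points in `L`. -/
def sp (X : Set G) (L : Subgroup G) : Subgroup G := Subgroup.closure (X ∩ (L : Set G))

/-- derived subgroup. -/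
abbrev qq (K : Subgroup G) : Subgroup G := ⁅K, K⁆

/-- central part of the derived subgroup. -/
abbrev zz (K : Subgroup G) : Subgroup G := qq K ⊓ Subgroup.centralizer (K : Set G)

/-- derived subgroup of the span. -/
abbrev th (X : Set G) (L : Subgroup G) : Subgroup G := qq (sp X L)

/-- points act without fixed points on `[R,y]`. -/
def Flat (q : ℕ) (X : Set G) : Prop :=
  ∀ y ∈ X, ∀ R : Subgroup G, IsPGroup q R → y ∈ nor R → ∀ z ∈ cm R y, Commute z y → z = 1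

/-- points centralize the derived group of `[R,y]`. -/
def Spec (q : ℕ) (X : Set G) : Prop :=
  ∀ y ∈ X, ∀ R : Subgroup G, IsPGroup q R → y ∈ nor R → ∀ a ∈ cm R y, ∀ b ∈ cm R y,
    Commute (a * b * a⁻¹ * b⁻¹) y

/-- the hypotheses, inherited by subgroups and suitable quotients. -/
structure Hy (p q : ℕ) (X : Set G) : Prop where
  pp : p.Prime
  qp : q.Prime
  p2 : p ≠ 2
  q2 : q ≠ 2
  pq : p ≠ q
  ord : ∀ y ∈ X, orderOf y = p
  conj : ∀ y ∈ X, ∀ g : G, g * y * g⁻¹ ∈ X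
  pw : ∀ y ∈ X, ∀ a ∈ zpowers y, a ≠ 1 → a ∈ X
  h1 : ∀ y ∈ X, ∀ b ∈ X, ∃ R : Subgroup G, IsPGroup q R ∧ y ∈ nor R ∧ b ∈ R ⊔ zpowers y
  h3 : ∀ a ∈ X, ∀ b ∈ X, ∀ c ∈ X, c ∈ zpowers a ⊔ zpowers b → c ∉ zpowers a →
    b ∈ zpowers a ⊔ zpowers c
  h2 : ∀ y ∈ X, ∀ R : Subgroup G, IsPGroup q R → y ∈ nor R → ∀ z ∈ cm R y, Commute z y →
    ∀ b ∈ cm R y, Commute z b
  h4 : Flat q X ∨ Spec q X

/-- the conclusion. -/
def Good (q : ℕ) (X : Set G) : Prop :=
  ∃ Q : Subgroup G, Q.Normal ∧ IsPGroup q Q ∧ ∀ y ∈ X, Q ⊔ zpowers y = ⊤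

/-- minimal counterexample. -/
structure Cx (p q : ℕ) (X : Set G) : Prop extends Hy p q X where
  gen : Subgroup.closure X = ⊤
  nt : X.Nonempty
  sol : ∀ N : Subgroup G, N.Normal → Group.IsSolvable N → N = ⊥
  loc : ∀ L : Subgroup G, L ≠ ⊤ → ∃ T : Subgroup G, IsPGroup q T ∧ T ≤ sp X L ∧ sp X L ≤ nor T ∧
    ∀ y ∈ X, y ∈ L → T ⊔ zpowers y = sp X L

/-- a block: the span of the centralizer of one of its central commutators. -/
def Blk (X : Set G) (K : Subgroup G) : Prop := ∃ z ∈ zz K, z ≠ 1 ∧ K = sp X (cen z)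

/-- a counterexample to Lemma A. -/
def Cc (q : ℕ) (K : Subgroup G) (y : G) (R : Subgroup G) : Prop :=
  IsPGroup q R ∧ y ∈ nor R ∧ (∃ z ∈ zz K, z ≠ 1 ∧ z ∈ R) ∧ ¬ cm R y ≤ qq K

/-- the hypotheses on pairs of points. -/
structure Pr (p n : ℕ) (X : Set G) : Prop where
  pp : p.Prime
  odd : Odd n
  ord : ∀ y ∈ X, orderOf y = p
  conj : ∀ y ∈ X, ∀ g : G, g * y * g⁻¹ ∈ X
  card : ∀ a ∈ X, ∀ b ∈ X, b ∉ zpowers a → Nat.card (zpowers a ⊔ zpowers b : Subgroup G) = n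
  ncomm : ∀ a ∈ X, ∀ b ∈ X, b ∉ zpowers a → ¬ Commute a b

theorem sp_le (X : Set G) (L : Subgroup G) : sp X L ≤ L :=
  (Subgroup.closure_le L).2 fun _ h => h.2

theorem mem_sp {X : Set G} {L : Subgroup G} {y : G} (hy : y ∈ X) (hL : y ∈ L) : y ∈ sp X L :=
  Subgroup.subset_closure ⟨hy, hL⟩

theorem sp_le_of {X : Set G} {L H : Subgroup G} (h : ∀ y ∈ X, y ∈ L → y ∈ H) : sp X L ≤ H :=
  (Subgroup.closure_le H).2 fun y hy => h y hy.1 hy.2

theorem sp_mono {X : Set G} {L L' : Subgroup G} (h : L ≤ L') : sp X L ≤ sp X L' :=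
  sp_le_of fun _ hy hL => mem_sp hy (h hL)

theorem sp_sp (X : Set G) (L : Subgroup G) : sp X (sp X L) = sp X L :=
  le_antisymm (sp_le _ _) (sp_le_of fun _ hy hL => mem_sp hy (mem_sp hy hL))

theorem qq_le (K : Subgroup G) : qq K ≤ K := Subgroup.commutator_le_self K

theorem qq_mono {K K' : Subgroup G} (h : K ≤ K') : qq K ≤ qq K' := Subgroup.commutator_mono h h

theorem mem_zz {K : Subgroup G} {z : G} : z ∈ zz K ↔ z ∈ qq K ∧ ∀ a ∈ K, Commute z a := by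
  rw [Subgroup.mem_inf, Subgroup.mem_centralizer_iff]
  exact and_congr Iff.rfl ⟨fun h y hy => (h y hy).symm, fun h y hy => (h y hy).symm⟩

end Cfsg.Agent.AF
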