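import Cfsg.Agent.AF.T2

/-! Project AF (S3257): pairs of points, fixed points of 2-groups (notes/AF.md, T3). -/

set_option autoImplicit false
set_option linter.unusedSectionVars false

namespace Cfsg.Agent.AF

open Cfsg.Agent.DT (cm nor cen cj)
open Subgroup (zpowers)

variable {G : Type*} [Group G] [Finite G] {p q : ℕ} {X : Set G}

namespace T3Aux

theorem cj_zp (g a : G) : cj g (zpowers a) = zpowers (g * a * g⁻¹) := by
  rw [cj, MonoidHom.map_zpowers]; rfl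

/-- the conjugation action on subgroups -/
@[reducible] def act (G : Type*) [Group G] [Finite G] : MulAction G (Subgroup G) where
  smul g H := cj g H
  one_smul H := DT.cj_eq_self_iff.2 (one_mem _)
  mul_smul g h H := (DT.cj_cj g h H).symm

theorem left_mem (a b : G) : a ∈ zpowers a ⊔ zpowers b := Subgroup.mem_sup_left (Subgroup.mem_zpowers a)

theorem right_mem (a b : G) : b ∈ zpowers a ⊔ zpowers b := Subgroup.mem_sup_right (Subgroup.mem_zpowers b)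

theorem two_zp {s : G} (hs : s * s = 1) : IsPGroup 2 (zpowers s) := by
  rintro ⟨x, k, rfl⟩
  refine ⟨1, Subtype.ext ?_⟩
  show (s ^ k) ^ 2 ^ 1 = 1
  rw [pow_one, ← zpow_natCast, ← zpow_mul, mul_comm, zpow_mul, zpow_natCast, sq, hs, one_zpow]

end T3Aux

open T3Aux

theorem sp_pair {a b : G} (ha : a ∈ X) (hb : b ∈ X) :
    sp X (zpowers a ⊔ zpowers b) = zpowers a ⊔ zpowers b :=
  le_antisymm (sp_le _ _) (sup_le (Subgroup.zpowers_le.2 (mem_sp ha (left_mem a b)))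
    (Subgroup.zpowers_le.2 (mem_sp hb (right_mem a b))))

theorem Cx.pair_ne_top (C : Cx p q X) {a b : G} (ha : a ∈ X) (hb : b ∈ X) :
    zpowers a ⊔ zpowers b ≠ ⊤ := fun h => by
  obtain ⟨R, hR, haR, hbR⟩ := C.h1 a ha b hb
  have h1 : R ⊔ zpowers a = ⊤ := eq_top_iff.2 (h ▸ sup_le le_sup_right (Subgroup.zpowers_le.2 hbR))
  have h2 : nor R = ⊤ := eq_top_iff.2 (h1 ▸ sup_le Subgroup.le_normalizer (Subgroup.zpowers_le.2 haR))
  have h3 : R = ⊥ := by_contra fun k => C.nor_ne_top C.qp hR k h2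
  obtain ⟨c, -, hc⟩ := C.exists_other ha
  rw [h3, bot_sup_eq] at h1
  exact hc (h1 ▸ Subgroup.mem_top c)

theorem Cx.par (C : Cx p q X) {y b g : G} (hy : y ∈ X) (hb : b ∈ X) (hg : g ∈ nor (zpowers b))
    (hc : Commute g y) : Commute g b := by
  have hF := C.pair_ne_top hy hb
  have hgy : g ∈ nor (zpowers y) := DT.cj_eq_self_iff.1 (by rw [cj_zp, hc.eq, mul_inv_cancel_right])
  have hgF : g ∈ nor (th X (zpowers y ⊔ zpowers b)) :=
    nor_le_nor_qq _ (C.toHy.nor_le_nor_sp _ (DT.nor_inf_le_nor_sup _ _ ⟨hgy, hg⟩))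
  obtain ⟨u, hu, a, ha, e⟩ := C.pts hF hy (left_mem y b) hb (right_mem y b)
  have haN : a⁻¹ ∈ nor (th X (zpowers y ⊔ zpowers b)) :=
    inv_mem (C.toHy.le_nor_th _ (Subgroup.mem_sup_left ha))
  have hga : g * a = a * g := by
    obtain ⟨k, rfl⟩ := ha
    exact (hc.zpow_right k).eq
  have hu' := (DT.mem_nor.1 hgF u).1 hu
  have h1 : b⁻¹ * (g * b * g⁻¹) ∈ th X (zpowers y ⊔ zpowers b) := by
    have := mul_mem (mul_mem hu ((DT.mem_nor.1 haN _).1 (mul_mem (inv_mem hu) hu'))) (inv_mem hu')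
    convert this using 1
    have e2 : g * (u * a * u⁻¹) * g⁻¹ = g * u * g⁻¹ * a * (g * u * g⁻¹)⁻¹ := by
      calc g * (u * a * u⁻¹) * g⁻¹ = g * u * g⁻¹ * (g * a) * u⁻¹ * g⁻¹ := by group
        _ = _ := by rw [hga]; group
    conv_lhs => rw [e, e2]
    group
  have h2 : b⁻¹ * (g * b * g⁻¹) ∈ zpowers b :=
    mul_mem (inv_mem (Subgroup.mem_zpowers b)) ((DT.mem_nor.1 hg b).1 (Subgroup.mem_zpowers b))
  have h3 := C.toHy.q_inf hb (C.th_pgroup hF) h1 h2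
  rw [inv_mul_eq_one, eq_mul_inv_iff_mul_eq] at h3
  exact h3.symm

theorem Cx.fix_pt (C : Cx p q X) {L E : Subgroup G} (hL : L ≠ ⊤) {y : G} (hy : y ∈ X) (hyL : y ∈ L)
    (hE : IsPGroup 2 E) (hEL : E ≤ nor (sp X L)) :
    ∃ m ∈ X, m ∈ sp X L ∧ E ≤ nor (zpowers m) := by
  letI := act G
  haveI := Fact.mk C.qp
  haveI := Fact.mk Nat.prime_two
  have sm : ∀ (g : G) (H : Subgroup G), g • H = cj g H := fun _ _ => rfl
  have hm : ∀ u ∈ th X L, u * y * u⁻¹ ∈ sp X L := fun u hu =>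
    mul_mem (mul_mem (qq_le _ hu) (mem_sp hy hyL)) (inv_mem (qq_le _ hu))
  let S : SubMulAction E (Subgroup G) :=
    { carrier := MulAction.orbit (th X L) (zpowers y)
      smul_mem' := by
        rintro e _ ⟨u, rfl⟩
        have h1 : e.1 * (u.1 * y * u.1⁻¹) * e.1⁻¹ ∈ sp X L := (DT.mem_nor.1 (hEL e.2) _).1 (hm u.1 u.2)
        have h2 : e.1 * (u.1 * y * u.1⁻¹) * e.1⁻¹ ∈ X := C.conj _ (C.conj y hy _) _
        obtain ⟨v, hv, a, ha, h⟩ := C.pts hL hy hyL h2 (sp_le _ _ h1)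
        have a1 : a ≠ 1 := fun k => C.toHy.ne_one h2 (by rw [h, k, mul_one, mul_inv_cancel])
        refine ⟨⟨v, hv⟩, ?_⟩
        show cj v (zpowers y) = cj e.1 (cj u.1 (zpowers y))
        rw [cj_zp u.1, cj_zp e.1, h, ← cj_zp, C.toHy.zp_eq hy ha a1] }
  obtain ⟨n, hn⟩ := (C.th_pgroup hL).card_orbit (zpowers y)
  have hS : ¬ 2 ∣ Nat.card S := fun k => by
    have k' : 2 ∣ q ^ n := hn ▸ k
    exact C.q2 ((Nat.prime_dvd_prime_iff_eq Nat.prime_two C.qp).1 (Nat.prime_two.dvd_of_dvd_pow k')).symm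
  obtain ⟨⟨_, u, rfl⟩, hf⟩ := hE.nonempty_fixed_point_of_prime_not_dvd_card S hS
  refine ⟨u.1 * y * u.1⁻¹, C.conj y hy _, hm u.1 u.2, fun e he => DT.cj_eq_self_iff.1 ?_⟩
  rw [← cj_zp]
  exact congrArg Subtype.val (hf ⟨e, he⟩)

theorem nor_pair {s b : G} (hs : s * s = 1) : s ∈ nor (zpowers b ⊔ zpowers (s * b * s⁻¹)) := by
  refine DT.cj_eq_self_iff.1 ?_
  have e : s * (s * b * s⁻¹) * s⁻¹ = b := by
    calc s * (s * b * s⁻¹) * s⁻¹ = (s * s) * b * (s * s)⁻¹ := by group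
      _ = b := by rw [hs]; group
  have h1 := cj_zp s b
  have h2 := cj_zp s (s * b * s⁻¹)
  rw [cj] at h1 h2
  rw [cj, Subgroup.map_sup, h1, h2, e, sup_comm]

theorem Cx.mid (C : Cx p q X) {s b : G} (hs : s * s = 1) (hb : b ∈ X) :
    ∃ m ∈ X, m ∈ zpowers b ⊔ zpowers (s * b * s⁻¹) ∧ s ∈ nor (zpowers m) := by
  have hb' := C.conj b hb s
  obtain ⟨m, hm, h1, h2⟩ := C.fix_pt (C.pair_ne_top hb hb') hb (left_mem _ _) (two_zp hs)
    (by rw [sp_pair hb hb']; exact Subgroup.zpowers_le.2 (nor_pair hs))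
  exact ⟨m, hm, sp_le _ _ h1, h2 (Subgroup.mem_zpowers s)⟩

theorem Cx.lemM (C : Cx p q X) {s : G} (hs : s * s = 1) {K : Subgroup G} (hK : sp X K = K)
    (h : ∀ m ∈ X, s ∈ nor (zpowers m) → m ∈ K) : s ∈ nor K := by
  have key : sp X K ≤ K.comap (MulAut.conj s).toMonoidHom := sp_le_of fun b hb hbK => by
    show s * b * s⁻¹ ∈ K
    obtain ⟨m, hm, h1, h2⟩ := C.mid hs hb
    by_cases k : m ∈ zpowers b
    · rw [C.toHy.zp_eq hb k (C.toHy.ne_one hm)] at h2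
      exact Subgroup.zpowers_le.2 hbK ((DT.mem_nor.1 h2 b).1 (Subgroup.mem_zpowers b))
    · exact sup_le (Subgroup.zpowers_le.2 hbK) (Subgroup.zpowers_le.2 (h m hm h2))
        (C.h3 b hb _ (C.conj b hb s) m hm h1 k)
  rw [hK] at key
  exact Subgroup.mem_normalizer_fintype fun a ha => key ha

theorem Cx.ncl (C : Cx p q X) {y : G} (hy : y ∈ X) :
    Subgroup.normalClosure ({y} : Set G) = ⊤ := by
  refine eq_top_iff.2 (C.gen ▸ (Subgroup.closure_le _).2 fun b hb => ?_)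
  obtain ⟨u, -, a, ha, e⟩ := C.pts (C.pair_ne_top hy hb) hy (left_mem y b) hb (right_mem y b)
  rw [e]
  exact Subgroup.normalClosure_normal.conj_mem a
    (Subgroup.zpowers_le.2 (Subgroup.subset_normalClosure (Set.mem_singleton y)) ha) u

end Cfsg.Agent.AF
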