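import Cfsg.Agent.AF.LA
import Cfsg.Agent.AF.T3

set_option autoImplicit false
set_option linter.unusedSectionVars false

namespace Cfsg.Agent.AF

open Cfsg.Agent.DT (cm nor cen cj)
open Subgroup (zpowers)

variable {G : Type*} [Group G] [Finite G] {p q : ℕ} {X : Set G}

namespace EAux

open Cfsg.Agent.DT

theorem cen_zz (C : Cx p q X) {t y : G} (ht : t * t = 1) (hy : y ∈ X) (hty : Commute t y)
    {K K2 : Subgroup G} (h : Blk X K) (h2 : Blk X K2) (hne : K ≠ K2) (hyK : y ∈ K) (htK : t ∈ nor K)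
    (k1 : sp X (cen t) ≤ K) (k2 : sp X (cen t) ≤ K2) {z : G} (hz : z ∈ zz K) : Commute z t := by
  have key : ∀ z ∈ zz K, z * t * z⁻¹ ∈ nor K2 := by
    intro z hz
    have hz' := (mem_zz.1 hz).2
    refine C.lemM (by
      calc z * t * z⁻¹ * (z * t * z⁻¹) = z * (t * t) * z⁻¹ := by group
        _ = 1 := by rw [ht]; group) h2.sp_eq fun m hm hs => ?_
    have c1 : Commute (z * t * z⁻¹) y :=
      ((hz' y hyK).mul_left hty).mul_left (hz' y hyK).inv_left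
    have c2 : Commute (z * t * z⁻¹) m := C.par hy hm hs c1
    have m1 : z⁻¹ * m * z⁻¹⁻¹ ∈ sp X (cen t) := by
      refine mem_sp (C.conj m hm z⁻¹) (mem_cen.2 ?_)
      show z⁻¹ * m * z⁻¹⁻¹ * t = t * (z⁻¹ * m * z⁻¹⁻¹)
      calc z⁻¹ * m * z⁻¹⁻¹ * t = z⁻¹ * (m * (z * t * z⁻¹)) * z := by group
        _ = z⁻¹ * ((z * t * z⁻¹) * m) * z := by rw [c2.eq]
        _ = _ := by group
    have e : m = z⁻¹ * m * z⁻¹⁻¹ := by
      calc m = z * (z⁻¹ * m * z⁻¹⁻¹) * z⁻¹ := by group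
        _ = (z⁻¹ * m * z⁻¹⁻¹) * z * z⁻¹ := by rw [(hz' _ (k1 m1)).eq]
        _ = _ := by group
    rw [e]
    exact k2 m1
  have t2 : t ∈ nor K2 := by simpa using key 1 (zz K).one_mem
  have a1 : z * t * z⁻¹ * t⁻¹ ∈ nor K2 := (nor K2).mul_mem (key z hz) ((nor K2).inv_mem t2)
  have a2 : z * t * z⁻¹ * t⁻¹ ∈ zz K := by
    have := (zz K).mul_mem hz ((mem_nor.1 (nor_le_nor_zz K htK) _).1 ((zz K).inv_mem hz))
    simpa [mul_assoc] using this
  have a3 := C.la_blk h h2 hne hy hyK (k2 (mem_sp hy (mem_cen.2 hty.symm))) a2 a1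
  rw [mul_inv_eq_one, mul_inv_eq_iff_eq_mul] at a3
  exact a3

theorem qq_cen (C : Cx p q X) {t y : G} (ht : t * t = 1) (ht1 : t ≠ 1) (hy : y ∈ X) (hty : Commute t y)
    {K : Subgroup G} (h : Blk X K) (hyK : y ∈ K) (htK : t ∈ nor K) (k1 : sp X (cen t) ≤ K)
    (hz : ∀ z ∈ zz K, Commute z t) (hW : ∀ a ∈ th X (cen t), ∀ b ∈ th X (cen t), Commute a b) :
    qq K ≤ Subgroup.centralizer (th X (cen t) : Set G) := by
  have w1 : th X (cen t) ≤ qq K := qq_mono k1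
  have w2 : ∀ w ∈ th X (cen t), Commute w t := fun w hw => mem_cen.1 (sp_le _ _ (qq_le _ hw))
  have t1 : t ∈ Subgroup.centralizer (th X (cen t) : Set G) :=
    Subgroup.mem_centralizer_iff.2 fun w hw => (w2 w hw).eq
  have hq := C.blk_pgroup h
  have c1 : cm (qq K) t ≤ Subgroup.centralizer (th X (cen t) : Set G) := by
    refine cm_le_of (Subgroup.le_normalizer t1) fun a ha => ?_
    refine Subgroup.mul_mem _ (Subgroup.mem_centralizer_iff.2 fun w hw => ?_) (Subgroup.inv_mem _ t1)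
    have e1 := hz _ (C.comm_mem_zz h ((qq K).inv_mem ha) (w1 hw))
    have e2 : Commute (a⁻¹ * w * a) t := by
      have := e1.mul_left (w2 w hw)
      simpa [mul_assoc] using this
    calc w * (a * t * a⁻¹) = a * (a⁻¹ * w * a * t) * a⁻¹ := by group
      _ = a * (t * (a⁻¹ * w * a)) * a⁻¹ := by rw [e2.eq]
      _ = _ := by group
  intro a ha
  obtain ⟨a1, h1, c, hc, hct, rfl⟩ := cop_decomp Nat.prime_two C.qp C.q2.symm hq
    (by rw [pow_two, ht]) (nor_le_nor_qq K htK) ha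
  refine Subgroup.mul_mem _ (c1 h1) ?_
  have yt : y ∈ cen t := mem_cen.2 hty.symm
  have hR : IsPGroup q (qq K ⊓ cen t : Subgroup G) := hq.to_inf_left
  have yR : y ∈ nor (qq K ⊓ cen t) :=
    nor_inf_le_nor_inf _ _ ⟨nor_le_nor_qq K (Subgroup.le_normalizer hyK), Subgroup.le_normalizer yt⟩
  obtain ⟨a', h2, c', hc', hcy, rfl⟩ := cop_decomp C.pp C.qp C.pq hR (C.toHy.pow_eq hy) yR
    (r := c) ⟨hc, mem_cen.2 hct⟩
  have a2 : a' ∈ th X (cen t) := C.cm_le_th (C.cen_ne_top ht1) hy yt inf_le_right hR yR h2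
  have a3 : c' ∈ zz K := (C.zz_iff h hy hyK).2 ⟨hc'.1, hcy⟩
  refine Subgroup.mul_mem _ (Subgroup.mem_centralizer_iff.2 fun w hw => (hW w hw a' a2).eq)
    (Subgroup.mem_centralizer_iff.2 fun w hw => ((mem_zz.1 a3).2 w (qq_le K (w1 hw))).eq.symm)

end EAux

theorem Cx.cen_le_two (C : Cx p q X) {t y b : G} (ht : orderOf t = 2) (hy : y ∈ X) (hb : b ∈ X)
    (hty : Commute t y) (htb : Commute t b) (hne : b ∉ zpowers y) {K : Subgroup G} (h : Blk X K)
    (hyK : y ∈ K) {c : G} (hc : c ∈ zz K) (hc1 : c ≠ 1) (hct : Commute c t) :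
    cen t ≤ nor K := by
  have t2 : t * t = 1 := by rw [← pow_two, ← ht, pow_orderOf_eq_one]
  have t1 : t ≠ 1 := fun e => by rw [e, orderOf_one] at ht; omega
  have hT := C.cen_ne_top t1
  have yt : y ∈ cen t := DT.mem_cen.2 hty.symm
  have htK : t ∈ nor K := C.cen_le_nor h hc hc1 (DT.mem_cen.2 hct.symm)
  have k1 : sp X (cen t) ≤ K := C.la_loc h hT hy hyK yt hc hc1 (DT.mem_cen.2 hct)
  intro g hg
  by_contra hgK
  have h2 := C.blk_cj h g
  have hne' : K ≠ cj g K := fun e => hgK (DT.cj_eq_self_iff.1 e.symm)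
  have k2 : sp X (cen t) ≤ cj g K := by
    rw [← DT.cj_eq_self_iff.2 (C.toHy.nor_le_nor_sp _ (Subgroup.le_normalizer hg))]
    exact Subgroup.map_mono k1
  have hz : ∀ z ∈ zz K, Commute z t := fun z hz => EAux.cen_zz C t2 hy hty h h2 hne' hyK htK k1 k2 hz
  have w0 : th X (cen t) ≠ ⊥ := fun e => by
    have := C.sp_eq hT hy yt
    rw [e, bot_sup_eq] at this
    exact hne (this ▸ mem_sp hb (DT.mem_cen.2 htb.symm))
  have hW : ∀ a ∈ th X (cen t), ∀ b ∈ th X (cen t), Commute a b := fun a ha b hb =>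
    C.inf_comm h h2 hne' hy hyK (k2 (mem_sp hy yt)) ⟨qq_mono k1 ha, qq_mono k2 ha⟩
      ⟨qq_mono k1 hb, qq_mono k2 hb⟩
  have c1 := EAux.qq_cen C t2 t1 hy hty h hyK htK k1 hz hW
  have l1 : cen t ≤ nor (th X (cen t)) := C.toHy.le_nor_th _
  have l2 : K ≤ nor (th X (cen t)) := by
    rw [← C.blk_sup h hy hyK]
    exact sup_le (c1.trans (Subgroup.centralizer_le_normalizer _)) (Subgroup.zpowers_le.2 (l1 yt))
  have l3 := C.blk_max h l2 (C.nor_ne_top C.qp (C.th_pgroup hT) w0)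
  exact hgK (l3 ▸ C.toHy.nor_le_nor_sp _ (Subgroup.le_normalizer (l1 hg)))

end Cfsg.Agent.AF
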