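import Cfsg.Agent.AF.Q1

set_option autoImplicit false
set_option linter.unusedSectionVars false

namespace Cfsg.Agent.AF

open Cfsg.Agent.DT (cm nor cen cj)
open Subgroup (zpowers)

namespace FRAux

universe u

theorem swap {Q : Type*} [Group Q] {a b a' b' : Q} (h1 : Commute a a') (h2 : Commute b b')
    (h3 : Commute (a * b) (a' * b')) (hs : b * a' * b⁻¹ * a'⁻¹ ∈ Subgroup.center Q)
    (ht : b' * a * b'⁻¹ * a⁻¹ ∈ Subgroup.center Q) : b * a' * b⁻¹ * a'⁻¹ = b' * a * b'⁻¹ * a⁻¹ := by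
  generalize es : b * a' * b⁻¹ * a'⁻¹ = s at hs
  generalize et : b' * a * b'⁻¹ * a⁻¹ = t at ht
  refine mul_right_cancel (b := a * a' * (b * b')) ?_
  calc s * (a * a' * (b * b')) = s * a * (a' * (b * b')) := by group
    _ = a * b * (a' * b') := by rw [← Subgroup.mem_center_iff.1 hs a, ← es]; group
    _ = a' * t * (a * (b' * b)) := by rw [h3.eq, ← et]; group
    _ = t * (a' * a * (b' * b)) := by rw [Subgroup.mem_center_iff.1 ht a']; group
    _ = _ := by rw [h1.eq, h2.eq]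

theorem main {p q : ℕ} (hp : p.Prime) (hq : q.Prime) (hp2 : p ≠ 2) (hpq : p ≠ q) (n : ℕ) :
    ∀ (Q : Type u) [Group Q] [Finite Q], Nat.card Q = n → IsPGroup q Q → ∀ f : Q →* Q, (∀ v, f^[p] v = v) →
      Subgroup.closure {w | ∃ v, w = v * (f v)⁻¹} = ⊤ →
      (∀ v, Commute (v * (f v)⁻¹) (f (v * (f v)⁻¹))) → ∀ z, f z = z → z = 1 := by
  induction n using Nat.strong_induction_on with
  | _ n ih =>
  intro Q _ _ hn hQ f hf hg hc c fc
  have : Fact q.Prime := ⟨hq⟩
  by_contra c1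
  have : Nontrivial Q := ⟨c, 1, c1⟩
  have sf : Function.Surjective f := fun v => ⟨f^[p - 1] v, by
    rw [← Function.iterate_succ_apply' f, Nat.succ_eq_add_one, Nat.sub_add_cancel hp.pos, hf]⟩
  have it : ∀ (N : Subgroup Q) [N.Normal] (hN : N ≤ N.comap f) (k : ℕ) (v : Q),
      (QuotientGroup.map N N f hN)^[k] (v : Q ⧸ N) = (f^[k] v : Q) := fun N _ hN k => by
    induction k with
    | zero => exact fun _ => rfl
    | succ k ihk => exact fun v => ihk (f v)
  have IH : ∀ (N : Subgroup Q) [N.Normal] (hN : N ≤ N.comap f), N ≠ ⊥ →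
      ∀ x, QuotientGroup.map N N f hN x = x → x = 1 := fun N _ hN h1 => by
    refine ih _ ?_ (Q ⧸ N) rfl (hQ.to_quotient N) _ (fun v => ?_) ?_ fun v => ?_
    · rw [← hn, N.card_eq_card_quotient_mul_card_subgroup]
      exact lt_mul_of_one_lt_right Nat.card_pos (N.one_lt_card_iff_ne_bot.2 h1)
    · obtain ⟨v, rfl⟩ := QuotientGroup.mk_surjective v
      rw [it, hf]
    · rw [eq_top_iff, ← Subgroup.map_top_of_surjective _ (QuotientGroup.mk'_surjective N), ← hg,
        MonoidHom.map_closure]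
      refine Subgroup.closure_mono ?_
      rintro _ ⟨_, ⟨v, rfl⟩, rfl⟩
      exact ⟨v, rfl⟩
    · obtain ⟨v, rfl⟩ := QuotientGroup.mk_surjective v
      exact (hc v).map (QuotientGroup.mk' N)
  have mc := fun {a : Q} => Subgroup.mem_center_iff (z := a)
  have fZ : Subgroup.center Q ≤ (Subgroup.center Q).comap f := fun a ha => mc.2 fun b => by
    obtain ⟨b, rfl⟩ := sf b
    show f b * f a = f a * f b
    rw [← map_mul, mc.1 ha, map_mul]
  have fix : ∀ a ∈ Subgroup.center Q, f a = a := by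
    let N : Subgroup Q :=
      { carrier := {w | ∃ a ∈ Subgroup.center Q, w = a * (f a)⁻¹}
        one_mem' := ⟨1, one_mem _, by simp⟩
        mul_mem' := by
          rintro _ _ ⟨a, ha, rfl⟩ ⟨b, hb, rfl⟩
          refine ⟨a * b, mul_mem ha hb, ?_⟩
          rw [map_mul, mul_inv_rev, mul_assoc, ← mc.1 (inv_mem (show f a ∈ _ from fZ ha))]
          group
        inv_mem' := by
          rintro _ ⟨a, ha, rfl⟩
          exact ⟨a⁻¹, inv_mem ha, by rw [map_inv, mul_inv_rev, mc.1 (inv_mem ha)]⟩ }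
    have le : N ≤ Subgroup.center Q := by
      rintro _ ⟨a, ha, rfl⟩
      exact mul_mem ha (inv_mem (show f a ∈ _ from fZ ha))
    have : N.Normal := ⟨fun w hw g => by rwa [mc.1 (le hw), mul_inv_cancel_right]⟩
    have hN : N ≤ N.comap f := by
      rintro _ ⟨a, ha, rfl⟩
      exact ⟨f a, fZ ha, by simp⟩
    intro a ha
    by_contra ne
    have h1 := IH N hN (fun e => ne (mul_inv_eq_one.1 ((Subgroup.eq_bot_iff_forall _).1 e _ ⟨a, ha, rfl⟩)).symm)
      (c : Q ⧸ N) (congrArg _ fc)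
    obtain ⟨b, hb, e⟩ := (QuotientGroup.eq_one_iff c).1 h1
    have e1 : f b = c⁻¹ * b := by rw [e, mul_inv_rev, inv_inv, inv_mul_cancel_right]
    have e2 : ∀ k : ℕ, f^[k] b = c⁻¹ ^ k * b := fun k => by
      induction k with
      | zero => simp
      | succ k ihk => rw [Function.iterate_succ_apply', ihk, map_mul, map_pow, map_inv, fc, e1, pow_succ, mul_assoc]
    have e3 : c ^ p = 1 := by
      have := e2 p
      rw [hf, eq_comm, mul_eq_right, inv_pow, inv_eq_one] at this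
      exact this
    obtain ⟨k, hk⟩ := hQ c
    exact c1 (orderOf_eq_one_iff.1 (Nat.eq_one_of_dvd_coprimes (((Nat.coprime_primes hp hq).2 hpq).pow_right k)
      (orderOf_dvd_of_pow_eq_one e3) (orderOf_dvd_of_pow_eq_one hk)))
  have zb : Subgroup.center Q ≠ ⊥ := (Subgroup.nontrivial_iff_ne_bot _).1 hQ.center_nontrivial
  have fp := IH _ fZ zb
  have all : ∀ g, Commute g (f g) := fun g => by
    have inj : Function.Injective fun x => x * (QuotientGroup.map _ _ f fZ x)⁻¹ := fun x x' e => by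
      have e' : x * (QuotientGroup.map _ _ f fZ x)⁻¹ = x' * (QuotientGroup.map _ _ f fZ x')⁻¹ := e
      refine (inv_mul_eq_one.1 (fp (x'⁻¹ * x) ?_)).symm
      rw [map_mul, map_inv]
      generalize QuotientGroup.map _ _ f fZ x = A at e'
      generalize QuotientGroup.map _ _ f fZ x' = B at e'
      rw [mul_inv_eq_iff_eq_mul.1 e']
      group
    obtain ⟨x, hx⟩ := Finite.injective_iff_surjective.1 inj (g : Q ⧸ Subgroup.center Q)
    obtain ⟨v, rfl⟩ := QuotientGroup.mk_surjective x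
    have hm : (v * (f v)⁻¹)⁻¹ * g ∈ Subgroup.center Q := QuotientGroup.eq.1 hx
    have h1 := hc v
    generalize v * (f v)⁻¹ = w at hm h1
    obtain ⟨m, rfl⟩ : ∃ m, g = w * m := ⟨w⁻¹ * g, by group⟩
    rw [inv_mul_cancel_left] at hm
    rw [map_mul, fix m hm]
    exact (h1.mul_left (mc.1 hm _).symm).mul_right (mc.1 hm _)
  rcases subsingleton_or_nontrivial (Q ⧸ Subgroup.center Q) with h | h
  · have : (⊤ : Subgroup Q) ≤ ⊥ := hg ▸ (Subgroup.closure_le _).2 (by
      rintro _ ⟨v, rfl⟩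
      rw [fix v ((QuotientGroup.eq_one_iff v).1 (Subsingleton.elim _ _)), mul_inv_cancel]
      exact one_mem _)
    exact c1 (this trivial)
  have := (hQ.to_quotient (Subgroup.center Q)).center_nontrivial
  obtain ⟨⟨x, hx⟩, x1⟩ := exists_ne (1 : Subgroup.center (Q ⧸ Subgroup.center Q))
  obtain ⟨a, rfl⟩ := QuotientGroup.mk_surjective x
  have p0 : ∀ b, b * a * b⁻¹ * a⁻¹ ∈ Subgroup.center Q := fun b => (QuotientGroup.eq_one_iff _).1 (by
    rw [QuotientGroup.mk_mul, QuotientGroup.mk_mul, QuotientGroup.mk_mul, Subgroup.mem_center_iff.1 hx,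
      QuotientGroup.mk_inv, QuotientGroup.mk_inv, mul_inv_cancel_right, mul_inv_cancel])
  have st : ∀ {a : Q}, (∀ b, b * a * b⁻¹ * a⁻¹ ∈ Subgroup.center Q) →
      ∀ b, b * f a * b⁻¹ * (f a)⁻¹ ∈ Subgroup.center Q := fun {a} h b => by
    obtain ⟨b, rfl⟩ := sf b
    simpa using fZ (h b)
  have m : a⁻¹ * f (f a) ∈ Subgroup.center Q := mc.2 fun b => by
    have e1 := swap (all (f a)) (all b) (map_mul f (f a) b ▸ all (f a * b)) (st (st p0) b) (st p0 (f b))
    have e2 : f b * f a * (f b)⁻¹ * (f a)⁻¹ = b * a * b⁻¹ * a⁻¹ := by simpa using fix _ (p0 b)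
    rw [e2] at e1
    calc b * (a⁻¹ * f (f a)) = a⁻¹ * (b * a * b⁻¹ * a⁻¹)⁻¹ * (b * f (f a) * b⁻¹ * (f (f a))⁻¹) * f (f a) * b := by
          rw [mc.1 (inv_mem (p0 b)) a⁻¹, ← mc.1 (inv_mem (p0 b)) a⁻¹]; group
      _ = _ := by rw [e1]; group
  have e2 : (QuotientGroup.map _ _ f fZ)^[2] (a : Q ⧸ Subgroup.center Q) = a := (QuotientGroup.eq.2 m).symm
  obtain ⟨k, hk⟩ := hp.odd_of_ne_two hp2
  have e3 := it _ fZ p a
  rw [hf, hk, add_comm, Function.iterate_add_apply, Function.iterate_mul, Function.iterate_fixed e2] at e3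
  exact x1 (Subtype.ext (fp _ e3))

end FRAux

variable {G : Type*} [Group G] [Finite G] {p q : ℕ} {X : Set G}

theorem flat_of (hp : p.Prime) (hq : q.Prime) (hp2 : p ≠ 2) (hpq : p ≠ q) {y : G} (hyp : y ^ p = 1)
    {R : Subgroup G} (hR : IsPGroup q R) (hy : y ∈ nor R)
    (h : ∀ u ∈ R, Commute (u * y * u⁻¹ * y⁻¹) (y * (u * y * u⁻¹ * y⁻¹) * y⁻¹)) :
    ∀ z ∈ cm R y, Commute z y → z = 1 := by
  have le := DT.cm_le hy
  have e := DT.cop_cm_cm hp hq hpq hR hyp hy
  have hn := DT.mem_nor_cm R y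
  generalize cm R y = K at le e hn
  let f : K →* K := MonoidHom.mk' (fun u => ⟨y * u * y⁻¹, (DT.mem_nor.1 hn u).1 u.2⟩) fun a b =>
    Subtype.ext (by simp)
  have fv : ∀ u : K, (f u : G) = y * u * y⁻¹ := fun _ => rfl
  have fw : ∀ u : K, ((u * (f u)⁻¹ : K) : G) = u * y * (u : G)⁻¹ * y⁻¹ := fun u => by
    rw [Subgroup.coe_mul, Subgroup.coe_inv, fv]; group
  have it : ∀ (k : ℕ) (u : K), (f^[k] u : G) = y ^ k * u * (y ^ k)⁻¹ := fun k u => by
    induction k with
    | zero => simp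
    | succ k ih => rw [Function.iterate_succ_apply', fv, ih, pow_succ']; group
  intro z hz hc
  refine congrArg Subtype.val (FRAux.main hp hq hp2 hpq _ K rfl (hR.to_le le) f
    (fun v => Subtype.ext (by rw [it, hyp]; simp)) ?_ (fun v => Subtype.ext ?_) ⟨z, hz⟩
    (Subtype.ext (by rw [fv, ← hc.eq, mul_inv_cancel_right])))
  · have mH : ∀ v : K, v * (f v)⁻¹ ∈ Subgroup.closure {w : K | ∃ v, w = v * (f v)⁻¹} := fun v =>
      Subgroup.subset_closure ⟨v, rfl⟩
    have fH : Subgroup.closure {w : K | ∃ v, w = v * (f v)⁻¹} ≤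
        (Subgroup.closure {w : K | ∃ v, w = v * (f v)⁻¹}).comap f := (Subgroup.closure_le _).2 (by
      rintro _ ⟨v, rfl⟩
      exact Subgroup.subset_closure ⟨f v, by simp⟩)
    generalize Subgroup.closure {w : K | ∃ v, w = v * (f v)⁻¹} = H at mH fH
    have := DT.cm_le_of (R := K) (H := H.map K.subtype) (y := y) (Subgroup.mem_normalizer_fintype (by
      rintro _ ⟨w, hw, rfl⟩
      exact ⟨f w, fH hw, rfl⟩)) fun a ha => ⟨_, mH ⟨a, ha⟩, fw ⟨a, ha⟩⟩
    rw [e] at this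
    refine eq_top_iff.2 fun w _ => ?_
    obtain ⟨w', hw', e'⟩ := this w.2
    exact Subtype.ext e' ▸ hw'
  · rw [Subgroup.coe_mul, Subgroup.coe_mul K (f _), fv (v * _), fw]
    exact h v (le v.2)

end Cfsg.Agent.AF
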