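import Cfsg.Agent.AF.Defs
import Cfsg.Agent.S0205

set_option autoImplicit false
set_option linter.unusedSectionVars false

namespace Cfsg.Agent.AF

open Cfsg.Agent.DT (cm nor cen cj)
open Subgroup (zpowers)

variable {G : Type*} [Group G] [Finite G] {p q : ℕ} {X : Set G}

namespace T1Aux

theorem normal_of {R : Subgroup G} (e : nor R = ⊤) : R.Normal := Subgroup.normalizer_eq_top_iff.1 e

theorem sol_zp (t : G) : Group.IsSolvable (zpowers t) :=
  isSolvable_of_comm fun a b => Subtype.ext (by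
    obtain ⟨_, i, rfl⟩ := a
    obtain ⟨_, j, rfl⟩ := b
    exact zpow_mul_comm t i j)

end T1Aux

open T1Aux

theorem Hy.sp_cj (h : Hy p q X) (g : G) (L : Subgroup G) : sp X (cj g L) = cj g (sp X L) := by
  apply le_antisymm
  · refine sp_le_of fun y hy hL => DT.mem_cj.2 (mem_sp ?_ (DT.mem_cj.1 hL))
    simpa using h.conj y hy g⁻¹
  · rw [Subgroup.map_le_iff_le_comap]
    exact sp_le_of fun y hy hL => mem_sp (h.conj y hy g) ⟨y, hL, rfl⟩

theorem Hy.nor_le_nor_sp (h : Hy p q X) (L : Subgroup G) : nor L ≤ nor (sp X L) := fun g hg =>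
  DT.cj_eq_self_iff.1 (by rw [← h.sp_cj, DT.cj_eq_self_iff.2 hg])

theorem qq_cj (g : G) (K : Subgroup G) : qq (cj g K) = cj g (qq K) := (Subgroup.map_commutator K K _).symm

theorem zz_cj (g : G) (K : Subgroup G) : zz (cj g K) = cj g (zz K) := by
  ext z
  rw [DT.mem_cj, mem_zz, mem_zz, qq_cj, DT.mem_cj]
  refine and_congr Iff.rfl ⟨fun e a ha => ?_, fun e a ha => ?_⟩
  · have := (e (g * a * g⁻¹) ⟨a, ha, rfl⟩).map (MulAut.conj g⁻¹)
    simpa [mul_assoc] using this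
  · have := (e _ (DT.mem_cj.1 ha)).map (MulAut.conj g)
    simpa [mul_assoc] using this

theorem nor_le_nor_qq (K : Subgroup G) : nor K ≤ nor (qq K) := fun g hg =>
  DT.cj_eq_self_iff.1 (by rw [← qq_cj, DT.cj_eq_self_iff.2 hg])

theorem nor_le_nor_zz (K : Subgroup G) : nor K ≤ nor (zz K) := fun g hg =>
  DT.cj_eq_self_iff.1 (by rw [← zz_cj, DT.cj_eq_self_iff.2 hg])

theorem cen_cj (g t : G) : cj g (cen t) = cen (g * t * g⁻¹) := by
  ext z
  rw [DT.mem_cj, DT.mem_cen, DT.mem_cen]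
  refine ⟨fun e => ?_, fun e => ?_⟩
  · simpa [mul_assoc] using e.map (MulAut.conj g)
  · simpa [mul_assoc] using e.map (MulAut.conj g⁻¹)

theorem Hy.le_nor_th (h : Hy p q X) (L : Subgroup G) : L ≤ nor (th X L) :=
  Subgroup.le_normalizer.trans ((h.nor_le_nor_sp L).trans (nor_le_nor_qq _))

theorem Hy.pow_eq (h : Hy p q X) {y : G} (hy : y ∈ X) : y ^ p = 1 := h.ord y hy ▸ pow_orderOf_eq_one y

theorem Hy.ne_one (h : Hy p q X) {y : G} (hy : y ∈ X) : y ≠ 1 := fun e =>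
  h.pp.one_lt.ne (by rw [← h.ord y hy, e, orderOf_one])

theorem Hy.zp_eq (h : Hy p q X) {y a : G} (hy : y ∈ X) (ha : a ∈ zpowers y) (h1 : a ≠ 1) :
    zpowers a = zpowers y :=
  Subgroup.eq_of_le_of_card_ge (Subgroup.zpowers_le.2 ha) (by
    rw [Nat.card_zpowers, Nat.card_zpowers, h.ord y hy, h.ord a (h.pw y hy a ha h1)])

theorem Hy.q_inf (h : Hy p q X) {y u : G} (hy : y ∈ X) {R : Subgroup G} (hR : IsPGroup q R)
    (hu : u ∈ R) (hu' : u ∈ zpowers y) : u = 1 := by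
  by_contra h1
  obtain ⟨k, hk⟩ := hR ⟨u, hu⟩
  have e : u ^ q ^ k = 1 := congrArg Subtype.val hk
  have := orderOf_dvd_of_pow_eq_one e
  rw [h.ord u (h.pw y hy u hu' h1)] at this
  exact h.pq ((Nat.prime_dvd_prime_iff_eq h.pp h.qp).1 (h.pp.dvd_of_dvd_pow this))

theorem Cx.nor_ne_top (C : Cx p q X) {r : ℕ} (hr : r.Prime) {R : Subgroup G} (hR : IsPGroup r R)
    (h : R ≠ ⊥) : nor R ≠ ⊤ := fun e => by
  have : Fact r.Prime := ⟨hr⟩
  have := hR.isNilpotent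
  exact h (C.sol R (normal_of e) inferInstance)

theorem Cx.cen_ne_top (C : Cx p q X) {t : G} (ht : t ≠ 1) : cen t ≠ ⊤ := fun e => by
  have hc : ∀ g, Commute g t := fun g => DT.mem_cen.1 (e ▸ Subgroup.mem_top g)
  refine ht (Subgroup.zpowers_eq_bot.1 (C.sol _ ⟨?_⟩ (sol_zp t)))
  rintro _ ⟨i, rfl⟩ g
  exact ⟨i, by simp only [((hc g).zpow_right i).eq, mul_inv_cancel_right]⟩

theorem Cx.odd_normal (C : Cx p q X) (N : Subgroup G) (hN : N.Normal) (ho : Odd (Nat.card N)) :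
    N = ⊥ := C.sol N hN (Cfsg.Agent.S0205.result ho)

theorem Cx.exists_inv (C : Cx p q X) : ∃ s : G, orderOf s = 2 := by
  have : Fact (Nat.Prime 2) := ⟨Nat.prime_two⟩
  refine exists_prime_orderOf_dvd_card' 2 (even_iff_two_dvd.1 (Nat.not_odd_iff_even.1 fun ho => ?_))
  obtain ⟨y, hy⟩ := C.nt
  have := C.odd_normal ⊤ inferInstance (by rwa [Subgroup.card_top])
  exact C.toHy.ne_one hy (Subgroup.mem_bot.1 (this ▸ Subgroup.mem_top y))

theorem Cx.exists_other (C : Cx p q X) {y : G} (hy : y ∈ X) : ∃ b ∈ X, b ∉ zpowers y := by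
  by_contra hn
  have e : zpowers y = ⊤ := top_le_iff.1 (C.gen ▸ (Subgroup.closure_le _).2 fun b hb =>
    by_contra fun hb' => hn ⟨b, hb, hb'⟩)
  exact C.toHy.ne_one hy (Subgroup.zpowers_eq_bot.1 (C.sol _ (e ▸ inferInstance) (sol_zp y)))

theorem Cx.not_isolated (C : Cx p q X) {t : G} (ht : orderOf t = 2)
    (hz : ∃ N : Subgroup G, N.Normal ∧ Odd (Nat.card N) ∧ ∀ g : G, t * g * t⁻¹ * g⁻¹ ∈ N) :
    False := by
  obtain ⟨N, hN, ho, hg⟩ := hz
  rw [C.odd_normal N hN ho] at hg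
  refine C.cen_ne_top (t := t) (fun e => by simp [e] at ht) (top_le_iff.1 fun g _ => DT.mem_cen.2 ?_)
  have := Subgroup.mem_bot.1 (hg g)
  rw [mul_inv_eq_one, mul_inv_eq_iff_eq_mul] at this
  exact this.symm

end Cfsg.Agent.AF
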