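import Cfsg.Agent.AF.Q2
import Cfsg.Agent.AF.T1

set_option autoImplicit false
set_option linter.unusedSectionVars false

namespace Cfsg.Agent.AF

open Cfsg.Agent.DT (cm nor cen cj)
open Subgroup (zpowers)

variable {G : Type*} [Group G] [Finite G] {p q : ℕ} {X : Set G}

namespace FinAux

theorem zp_pow {y a : G} (h : y ^ p = 1) (ha : a ∈ zpowers y) : a ^ p = 1 := by
  obtain ⟨k, rfl⟩ := ha
  change (y ^ k) ^ p = 1
  rw [← zpow_natCast, ← zpow_mul, mul_comm, zpow_mul, zpow_natCast, h, one_zpow]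

theorem zp_comm {y a u : G} (ha : a ∈ zpowers y) (h : Commute u y) : Commute u a := by
  obtain ⟨k, rfl⟩ := ha
  exact h.zpow_right k

theorem le_cm (h : Hy p q X) (hg : Subgroup.closure X = ⊤) {Q : Subgroup G} [Q.Normal] (hQ : IsPGroup q Q)
    {y : G} (hy : y ∈ X) (ht : Q ⊔ zpowers y = ⊤) : Q ≤ cm Q y := by
  have hn : y ∈ nor Q := Subgroup.le_normalizer_of_normal (Subgroup.mem_top y)
  have k : (⊤ : Subgroup G) ≤ zpowers y ⊔ cm Q y := by
    rw [← hg]
    refine (Subgroup.closure_le _).2 fun b hb => ?_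
    obtain ⟨u, hu, a, ha, rfl⟩ := conj_of_mem h.pp h.qp h.pq hQ (h.pow_eq hy) hn (ht.ge (Subgroup.mem_top b))
      (h.pow_eq hb)
    have e : u * a * u⁻¹ * a⁻¹ ∈ cm Q y := Subgroup.commutator_mem_commutator hu ha
    have := mul_mem (Subgroup.mem_sup_right e : _ ∈ zpowers y ⊔ cm Q y) (Subgroup.mem_sup_left ha)
    rwa [inv_mul_cancel_right] at this
  intro t hx
  obtain ⟨a, ha, v, hv, rfl⟩ :=
    (DT.mem_sup_nor (Subgroup.zpowers_le.2 (DT.mem_nor_cm Q y))).1 (k (Subgroup.mem_top t))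
  have : a = 1 := h.q_inf hy hQ ((Q.mul_mem_cancel_right (DT.cm_le hn hv)).1 hx) ha
  rwa [this, one_mul]

theorem cent (h : Hy p q X) (hg : Subgroup.closure X = ⊤) {Q : Subgroup G} [Q.Normal] (hQ : IsPGroup q Q)
    {y u : G} (hy : y ∈ X) (ht : Q ⊔ zpowers y = ⊤) (hu : u ∈ Q) (hc : Commute u y) : u ∈ Subgroup.center G := by
  have hn : y ∈ nor Q := Subgroup.le_normalizer_of_normal (Subgroup.mem_top y)
  have k := le_cm h hg hQ hy ht
  refine Subgroup.mem_center_iff.2 fun g => ?_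
  obtain ⟨v, hv, a, ha, rfl⟩ := Subgroup.mem_sup_of_normal_left.1 (ht.ge (Subgroup.mem_top g))
  exact ((h.h2 y hy Q hQ hn u (k hu) hc v (k hv)).mul_right (zp_comm ha hc)).symm

theorem odd (h : Hy p q X) {Q : Subgroup G} [Q.Normal] (hQ : IsPGroup q Q)
    {y : G} (hy : y ∈ X) (ht : Q ⊔ zpowers y = ⊤) : Odd (Nat.card G) := by
  haveI := Fact.mk h.qp
  obtain ⟨k, hk⟩ := IsPGroup.iff_card.1 hQ
  have hs : Function.Surjective ((QuotientGroup.mk' Q).comp (zpowers y).subtype) := fun x => by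
    obtain ⟨g, rfl⟩ := QuotientGroup.mk'_surjective Q x
    obtain ⟨v, hv, a, ha, rfl⟩ := Subgroup.mem_sup_of_normal_left.1 (ht.ge (Subgroup.mem_top g))
    refine ⟨⟨a, ha⟩, ?_⟩
    rw [map_mul, show QuotientGroup.mk' Q v = 1 from (QuotientGroup.eq_one_iff v).2 hv, one_mul]
    rfl
  have d := Subgroup.card_dvd_of_surjective _ hs
  rw [Nat.card_zpowers, h.ord y hy] at d
  rw [Subgroup.card_eq_card_quotient_mul_card_subgroup Q, hk]
  exact ((h.pp.odd_of_ne_two h.p2).of_dvd_nat d).mul (h.qp.odd_of_ne_two h.q2).pow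

theorem comm (h : Hy p q X) {Q : Subgroup G} [hN : Q.Normal] (hQ : IsPGroup q Q) {y u c d n : G} (hy : y ∈ X)
    (hu : u ∈ Q) (hc : c ∈ zpowers y) (hd : d ∈ zpowers y) (hn : n ∈ Subgroup.center G)
    (e : u * d * u⁻¹ = c * n) : Commute u d := by
  have cn : ∀ g, Commute g n := fun g => Subgroup.mem_center_iff.1 hn g
  have h1 : n ^ p = 1 := by
    have := conj_pow (a := u) (b := d) (i := p)
    rwa [e, zp_pow (h.pow_eq hy) hd, mul_one, mul_inv_cancel, (cn c).mul_pow, zp_pow (h.pow_eq hy) hc,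
      one_mul] at this
  have h2 : u * d * u⁻¹ * d⁻¹ ∈ Q := by
    have := mul_mem hu (hN.conj_mem _ (inv_mem hu) d)
    rwa [← mul_assoc, ← mul_assoc] at this
  have h3 : (u * d * u⁻¹ * d⁻¹) ^ p = 1 := by
    rw [e, mul_assoc, ← (cn d⁻¹).eq, ← mul_assoc, (cn _).mul_pow, h1,
      zp_pow (h.pow_eq hy) (mul_mem hc (inv_mem hd)), one_mul]
  obtain ⟨k, hk⟩ := hQ ⟨_, h2⟩
  have h4 : u * d * u⁻¹ * d⁻¹ = 1 := orderOf_eq_one_iff.1 (Nat.eq_one_of_dvd_coprimes
    (((Nat.coprime_primes h.pp h.qp).2 h.pq).pow_right k) (orderOf_dvd_of_pow_eq_one h3)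
    (orderOf_dvd_of_pow_eq_one (congrArg Subtype.val hk)))
  rwa [mul_inv_eq_one, mul_inv_eq_iff_eq_mul] at h4

end FinAux

theorem Hy.fin (h : Hy p q X) (hg : Subgroup.closure X = ⊤) (hb : Good q X)
    (hG : ¬ IsMulCommutative G) :
    Odd (Nat.card (G ⧸ Subgroup.center G)) ∧
      ∃ H : Subgroup (G ⧸ Subgroup.center G), Cfsg.IsFrobeniusComplement H := by
  obtain ⟨Q, hN, hQ, ht⟩ := hb
  have hz : Subgroup.center G ≠ ⊤ := fun e =>
    hG ⟨⟨fun a b => Subgroup.mem_center_iff.1 (e.ge (Subgroup.mem_top b)) a⟩⟩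
  obtain ⟨y, hy⟩ : X.Nonempty := by
    by_contra hn
    rw [Set.not_nonempty_iff_eq_empty.1 hn, Subgroup.closure_empty] at hg
    exact hz (top_le_iff.1 (hg.ge.trans bot_le))
  replace ht := ht y hy
  let π := QuotientGroup.mk' (Subgroup.center G)
  have hπ : ∀ g, π g = 1 ↔ g ∈ Subgroup.center G := fun g => QuotientGroup.eq_one_iff g
  refine ⟨(FinAux.odd h hQ hy ht).of_dvd_nat (Subgroup.card_quotient_dvd_card _), (zpowers y).map π,
    fun e => hz ?_, fun e => hG ?_, fun x hx => ?_⟩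
  · have yc : y ∈ Subgroup.center G := (hπ y).1 (Subgroup.mem_bot.1 (e.le ⟨y, Subgroup.mem_zpowers y, rfl⟩))
    rw [eq_top_iff, ← ht]
    exact sup_le (fun u hu => FinAux.cent h hg hQ hy ht hu (Subgroup.mem_center_iff.1 yc u))
      (Subgroup.zpowers_le.2 yc)
  · rw [MonoidHom.map_zpowers] at e
    haveI : IsCyclic (G ⧸ Subgroup.center G) := isCyclic_iff_exists_zpowers_eq_top.2 ⟨_, e⟩
    exact π.isMulCommutative_of_isCyclic_of_ker_le_center (QuotientGroup.ker_mk' _).le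
  · obtain ⟨g, rfl⟩ := QuotientGroup.mk'_surjective _ x
    obtain ⟨u, hu, a, ha, rfl⟩ := Subgroup.mem_sup_of_normal_left.1 (ht.ge (Subgroup.mem_top g))
    refine eq_bot_iff.2 fun w hw => ?_
    obtain ⟨⟨c, hc, rfl⟩, hw⟩ := hw
    obtain ⟨_, ⟨d, hd, rfl⟩, e⟩ := (Subgroup.mem_smul_pointwise_iff_exists _ _ _).1 hw
    have ad : Commute a d := FinAux.zp_comm hd (FinAux.zp_comm ha (Commute.refl y)).symm
    have e1 : π (u * d * u⁻¹) = π c := by
      rw [← e, show u * d * u⁻¹ = u * a * d * (u * a)⁻¹ by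
        rw [mul_assoc u a, ad.eq]; group, map_mul, map_mul, map_inv]
      rfl
    have e2 : c⁻¹ * (u * d * u⁻¹) ∈ Subgroup.center G := (hπ _).1 (by rw [map_mul, e1, map_inv, inv_mul_cancel])
    have e3 := FinAux.comm h hQ hy hu hc hd e2 (mul_inv_cancel_left _ _).symm
    by_cases d1 : d = 1
    · rw [Subgroup.mem_bot, ← e1, d1, mul_one, mul_inv_cancel, map_one]
    · refine (hx ⟨a, ha, ?_⟩).elim
      have uc := FinAux.cent h hg hQ hy ht hu
        (FinAux.zp_comm ((h.zp_eq hy hd d1).ge (Subgroup.mem_zpowers y)) e3)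
      rw [map_mul, (hπ u).2 uc, one_mul]

end Cfsg.Agent.AF
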