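import Cfsg.Agent.AF.T3
import Cfsg.Agent.H42.ZStar

/-! Project AF: some involution commutes with a point. -/

set_option autoImplicit false
set_option linter.unusedSectionVars false

namespace Cfsg.Agent.AF

open Cfsg.Agent.DT (cm nor cen cj)
open Subgroup (zpowers)

variable {G : Type*} [Group G] [Finite G] {p q : ℕ} {X : Set G}

namespace I4Aux

open Cfsg.Agent.DT

theorem inv_or (hp : p.Prime) {s m : G} (hs : s * s = 1) (hm : orderOf m = p) (h : s ∈ nor (zpowers m)) :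
    s * m * s⁻¹ = m ∨ s * m * s⁻¹ = m⁻¹ := by
  obtain ⟨k, hk⟩ := Subgroup.mem_zpowers_iff.1 ((mem_nor.1 h m).1 (Subgroup.mem_zpowers m))
  have h1 : m ^ (k * k) = m := by
    rw [zpow_mul, hk, conj_zpow, hk, show s * (s * m * s⁻¹) * s⁻¹ = s * s * m * (s * s)⁻¹ by group, hs]; simp
  have h2 : (p : ℤ) ∣ (k - 1) * (k + 1) := by
    rw [← hm, orderOf_dvd_iff_zpow_eq_one, show (k - 1) * (k + 1) = k * k - 1 by ring, zpow_sub, h1]; simp
  rw [← hk]
  rcases (Nat.prime_iff_prime_int.1 hp).dvd_or_dvd h2 with e | e <;>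
    rw [← hm, orderOf_dvd_iff_zpow_eq_one] at e
  · left
    rw [zpow_sub, zpow_one] at e
    exact mul_inv_eq_one.1 e
  · right
    rw [zpow_add, zpow_one] at e
    exact eq_inv_of_mul_eq_one_left e

theorem two_zp {s : G} (hs : orderOf s = 2) : IsPGroup 2 (zpowers s) :=
  IsPGroup.of_card (n := 1) (by rw [Nat.card_zpowers, hs]; rfl)

theorem nor_of_comm {s t : G} (h : Commute s t) : s ∈ nor (zpowers t) :=
  mem_nor.2 fun a => ⟨fun ⟨k, hk⟩ => by
    rw [← hk, (h.zpow_right k).eq, mul_inv_cancel_right]; exact ⟨k, rfl⟩, fun ⟨k, hk⟩ => by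
    refine ⟨k, ?_⟩
    have : t ^ k = s * a * s⁻¹ := hk
    have e : a = s⁻¹ * t ^ k * s := by rw [this]; group
    show t ^ k = a
    rw [e, (h.inv_left.zpow_right k).eq, inv_mul_cancel_right]⟩

theorem nor_conj {s t m : G} (h : Commute s t) (hm : s ∈ nor (zpowers m)) : s ∈ nor (zpowers (t * m * t⁻¹)) := by
  have e : zpowers (t * m * t⁻¹) = cj t (zpowers m) := by
    rw [cj, MonoidHom.map_zpowers]; rfl
  rw [e, nor_cj, mem_cj, ← h.inv_right.eq, inv_mul_cancel_right]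
  exact hm

end I4Aux

open I4Aux Cfsg.Agent.DT in
theorem Cx.exists_plus (C : Cx p q X) : ∃ t : G, orderOf t = 2 ∧ ∃ y ∈ X, Commute t y := by
  by_contra hn
  push Not at hn
  obtain ⟨s, hs⟩ := C.exists_inv
  refine C.not_isolated hs (H42.zstar ⟨hs, fun g hc => by_contra fun hne => ?_⟩)
  set s' := g * s * g⁻¹ with hs'
  have o' : orderOf s' = 2 := by
    rw [← hs]; exact MulEquiv.orderOf_eq (MulAut.conj g) s
  have sq : ∀ {x : G}, orderOf x = 2 → x * x = 1 := fun {x} h => by rw [← pow_two, ← h, pow_orderOf_eq_one]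
  obtain ⟨b, hb⟩ := C.nt
  obtain ⟨m, hm, -, hsm⟩ := C.mid (sq hs) hb
  have hm' := C.conj m hm s'
  obtain ⟨y, hy, -, hE⟩ := C.fix_pt (E := zpowers s ⊔ zpowers s') (C.pair_ne_top hm hm') hm
    (Subgroup.mem_sup_left (Subgroup.mem_zpowers m))
    (sup_pgroup (two_zp hs) (two_zp o') (Subgroup.zpowers_le.2 (nor_of_comm hc))) (by
      rw [sp_pair hm hm']
      exact sup_le (Subgroup.zpowers_le.2 (nor_inf_le_nor_sup _ _ ⟨hsm, nor_conj hc hsm⟩))
        (Subgroup.zpowers_le.2 (nor_pair (sq o'))))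
  have a1 := (inv_or C.pp (sq hs) (C.ord y hy) (hE (Subgroup.mem_sup_left (Subgroup.mem_zpowers s)))).resolve_left
    fun e => hn s hs y hy (mul_inv_eq_iff_eq_mul.1 e)
  have a2 := (inv_or C.pp (sq o') (C.ord y hy) (hE (Subgroup.mem_sup_right (Subgroup.mem_zpowers s')))).resolve_left
    fun e => hn s' o' y hy (mul_inv_eq_iff_eq_mul.1 e)
  haveI : Fact (Nat.Prime 2) := ⟨Nat.prime_two⟩
  refine hn (s * s') (orderOf_eq_prime ?_ fun e => hne ?_) y hy (mul_inv_eq_iff_eq_mul.1 ?_)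
  · rw [hc.mul_pow, pow_two, pow_two, sq hs, sq o', mul_one]
  · rw [← mul_right_inj s, e, sq hs]
  · rw [show s * s' * y * (s * s')⁻¹ = s * (s' * y * s'⁻¹) * s⁻¹ by group, a2, ← conj_inv, a1, inv_inv]

end Cfsg.Agent.AF
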