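import Cfsg.Agent.AF.I4
import Cfsg.Agent.S0058

set_option autoImplicit false
set_option linter.unusedSectionVars false

namespace Cfsg.Agent.AF

open Cfsg.Agent.DT (cm nor cen cj)
open Subgroup (zpowers)

variable {G : Type*} [Group G] [Finite G] {p q : ℕ} {X : Set G}

namespace I5Aux

theorem nor_of {H : Subgroup G} {g : G} (h : H ≤ H.comap (MulAut.conj g).toMonoidHom) : g ∈ nor H :=
  Subgroup.mem_normalizer_fintype fun _ hn => h hn

theorem klein {t t' : G} (ht : orderOf t = 2) (ht' : orderOf t' = 2) (hc : Commute t t') (hne : t' ≠ t) :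
    IsMulCommutative (Subgroup.closure ({t, t'} : Set G)) ∧ ¬ IsCyclic (Subgroup.closure ({t, t'} : Set G)) ∧
      ∀ e ∈ Subgroup.closure ({t, t'} : Set G), e ^ 2 = 1 := by
  have h1 : IsMulCommutative (Subgroup.closure ({t, t'} : Set G)) := Subgroup.isMulCommutative_closure (by
    rintro _ (rfl | rfl) _ (rfl | rfl)
    exacts [rfl, hc.eq, hc.eq.symm, rfl])
  have h2 : ∀ e ∈ Subgroup.closure ({t, t'} : Set G), e ^ 2 = 1 := fun e he => by
    induction he using Subgroup.closure_induction with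
    | mem x hx =>
      obtain rfl | rfl := hx
      · rw [← ht, pow_orderOf_eq_one]
      · rw [← ht', pow_orderOf_eq_one]
    | one => exact one_pow 2
    | mul x y hx hy a b => rw [Commute.mul_pow (setLike_mul_comm hx hy), a, b, one_mul]
    | inv x _ a => rw [inv_pow, a, inv_one]
  refine ⟨h1, fun ⟨g, hg⟩ => hne ?_, h2⟩
  have key : ∀ s, s ∈ Subgroup.closure ({t, t'} : Set G) → orderOf s = 2 → s = g := fun s hs h => by
    obtain ⟨k, hk⟩ := hg ⟨s, hs⟩
    have e : g.1 ^ k = s := congrArg Subtype.val hk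
    have g2 : g.1 ^ (2 : ℤ) = 1 := by exact_mod_cast h2 g g.2
    obtain ⟨m, rfl | rfl⟩ := Int.even_or_odd' k
    · rw [zpow_mul, g2, one_zpow] at e
      rw [← e, orderOf_one] at h
      exact absurd h (by decide)
    · rw [← e, zpow_add, zpow_mul, g2, one_zpow, one_mul, zpow_one]
  exact (key t' (Subgroup.subset_closure (by simp)) ht').trans (key t (Subgroup.subset_closure (by simp)) ht).symm

end I5Aux

theorem Cx.exists_two (C : Cx p q X) : ∃ t : G, orderOf t = 2 ∧ ∃ y ∈ X, ∃ b ∈ X,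
    Commute t y ∧ Commute t b ∧ b ∉ zpowers y := by
  by_contra H
  obtain ⟨t, ht, y, hy, hty⟩ := C.exists_plus
  have k0 : ∀ e, orderOf e = 2 → Commute e y → ∀ m ∈ X, Commute e m → m ∈ zpowers y := fun e he h1 m hm h2 =>
    by_contra fun h3 => H ⟨e, he, y, hy, m, hm, h1, h2, h3⟩
  refine C.not_isolated ht (H42.zstar ⟨ht, fun g hc => by_contra fun hne => ?_⟩)
  obtain ⟨t', e'⟩ : ∃ t', t' = g * t * g⁻¹ := ⟨_, rfl⟩
  rw [← e'] at hc hne
  have ht' : orderOf t' = 2 := by rw [e', ← ht]; exact (MulAut.conj g).orderOf_eq t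
  have cj : ∀ {a b : G} (u : G), Commute a b → Commute (u * a * u⁻¹) (u * b * u⁻¹) := fun u h =>
    h.map (MulAut.conj u)
  have a1 : t' * y * t'⁻¹ ∈ zpowers y := k0 t ht hty _ (C.conj y hy t') (by
    have := cj t' hty
    rwa [← hc.eq, mul_inv_cancel_right] at this)
  have a2 : Commute t' y := C.par (C.conj y hy g) hy (I5Aux.nor_of (Subgroup.zpowers_le.2 a1)) (e' ▸ cj g hty)
  obtain ⟨b, hb, hby⟩ := C.exists_other hy
  have hF := C.pair_ne_top hb hy
  have yF : y ∈ zpowers b ⊔ zpowers y := Subgroup.mem_sup_right (Subgroup.mem_zpowers y)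
  have bF : b ∈ zpowers b ⊔ zpowers y := Subgroup.mem_sup_left (Subgroup.mem_zpowers b)
  have a3 : ∀ s, orderOf s = 2 → Commute s y → s ∈ nor (th X (zpowers b ⊔ zpowers y)) := fun s hs hsy => by
    obtain ⟨m, hm, m1, m2⟩ := C.mid (s := s) (by rw [← pow_two, ← hs, pow_orderOf_eq_one]) hb
    have m3 := C.toHy.zp_eq hy (k0 s hs hsy m hm (C.par hy hm m2 hsy)) (C.toHy.ne_one hm)
    have m4 := C.h3 b hb _ (C.conj b hb s) m hm m1 fun h =>
      hby (m3 ▸ C.toHy.zp_eq hb h (C.toHy.ne_one hm) ▸ Subgroup.mem_zpowers b)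
    rw [m3] at m4
    refine nor_le_nor_qq _ (C.toHy.nor_le_nor_sp _ (I5Aux.nor_of (sup_le (Subgroup.zpowers_le.2 m4)
      (Subgroup.zpowers_le.2 ?_))))
    change s * y * s⁻¹ ∈ zpowers b ⊔ zpowers y
    rwa [hsy.eq, mul_inv_cancel_right]
  obtain ⟨c1, c2, c3⟩ := I5Aux.klein ht ht' hc hne
  have : Fact (Nat.Prime 2) := ⟨Nat.prime_two⟩
  have : Fact q.Prime := ⟨C.qp⟩
  have a4 : th X (zpowers b ⊔ zpowers y) ≤ nor (zpowers y) := by
    refine H46.le_of_forall_element (p := 2) (fun e => ⟨1, Subtype.ext (c3 e e.2)⟩) c1 c2 ?_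
      ((Subgroup.closure_le _).2 ?_) fun e he e1 u hu => ?_
    · obtain ⟨n, hn⟩ := IsPGroup.iff_card.1 (C.th_pgroup hF)
      rw [hn]
      exact fun h => C.q2 ((Nat.prime_dvd_prime_iff_eq Nat.prime_two C.qp).1 (Nat.prime_two.dvd_of_dvd_pow h)).symm
    · rintro _ (rfl | rfl)
      exacts [a3 _ ht hty, a3 _ ht' a2]
    · have b1 : Commute e y := DT.mem_cen.1 ((Subgroup.closure_le (cen y)).2 (by
        rintro _ (rfl | rfl)
        exacts [DT.mem_cen.2 hty, DT.mem_cen.2 a2]) he)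
      have b2 := cj u b1
      rw [(DT.mem_cen.1 hu.2).eq, mul_inv_cancel_right] at b2
      exact I5Aux.nor_of (Subgroup.zpowers_le.2 (k0 e (orderOf_eq_prime (c3 e he) e1) b1 _ (C.conj y hy u) b2))
  obtain ⟨u, hu, a, ha, e⟩ := C.pts hF hy yF hb bF
  exact hby (e ▸ (DT.mem_nor.1 (a4 hu) a).1 ha)

end Cfsg.Agent.AF
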