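import Cfsg.Agent.AF.E
import Cfsg.Agent.SDP.BT

set_option autoImplicit false
set_option linter.unusedSectionVars false

namespace Cfsg.Agent.AF

open Cfsg.Agent.DT (cm nor cen cj)
open Subgroup (zpowers)

variable {G : Type*} [Group G] [Finite G] {p q : ℕ} {X : Set G}

namespace I6Aux

theorem core_of {t v : G} {R : Subgroup G} (hR : R ≤ cen t) (hn : cen t ≤ nor R) (ho : Odd (Nat.card R))
    (hv : v ∈ R) : v ∈ centralizerPPrimeCore 2 t :=
  SDP.mem_cpc R hR (fun g hg r hr => (DT.mem_nor.1 (hn (DT.mem_cen.2 hg)) r).1 hr) ho hv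

theorem odd_of {R : Subgroup G} (hq : q.Prime) (h2 : q ≠ 2) (hR : IsPGroup q R) : Odd (Nat.card R) := by
  have : Fact q.Prime := ⟨hq⟩
  obtain ⟨k, hk⟩ := IsPGroup.iff_card.1 hR
  rw [hk]
  exact (hq.odd_of_ne_two h2).pow

end I6Aux

/-- elements of a `t`-invariant pair group commuting with `t` lie in `O(C(t))`. -/
theorem Cx.mem_core (C : Cx p q X) {t y b : G} (ht : orderOf t = 2) (hy : y ∈ X) (hb : b ∈ X)
    (hty : Commute t y) (htb : Commute t b) (hne : b ∉ zpowers y) {w : G} (hw : w ∈ X) {v : G}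
    (hv : v ∈ zpowers w ⊔ zpowers (t * w * t⁻¹)) (hvt : Commute v t) :
    v ∈ centralizerPPrimeCore 2 t := by
  have htt : t * t = 1 := by rw [← sq, ← ht, pow_orderOf_eq_one]
  have ht1 : t ≠ 1 := by
    rintro rfl
    simp at ht
  have hw' : t * w * t⁻¹ ∈ X := C.conj w hw t
  have hF := C.pair_ne_top hw hw'
  have hL := C.cen_ne_top ht1
  obtain ⟨m, hm, hmF, htm⟩ := C.mid htt hw
  have hc : Commute t m := C.par hy hm htm hty
  have hmc : m ∈ cen t := DT.mem_cen.2 hc.symm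
  have self : cen t ≤ nor (cen t) := Subgroup.le_normalizer
  have core : ∀ x ∈ sp X (cen t), x ∈ centralizerPPrimeCore 2 t := fun x hx =>
    I6Aux.core_of (sp_le _ _) (self.trans (C.toHy.nor_le_nor_sp _)) (C.odd_sp hL) hx
  obtain ⟨u, hu, a, ha, rfl⟩ := C.sp_decomp hF hm hmF ((sp_pair hw hw').ge hv)
  have ham : a ∈ sp X (cen t) := (Subgroup.zpowers_le.2 (mem_sp hm hmc)) ha
  have hat : Commute a t := DT.mem_cen.1 (sp_le _ _ ham)
  have hut : Commute u t := by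
    have := hvt.mul_left hat.inv_left
    rwa [mul_inv_cancel_right] at this
  have hR : IsPGroup q (th X (zpowers w ⊔ zpowers (t * w * t⁻¹)) ⊓ cen t : Subgroup G) :=
    (C.th_pgroup hF).to_le inf_le_left
  have hmR : m ∈ nor (th X (zpowers w ⊔ zpowers (t * w * t⁻¹)) ⊓ cen t) :=
    DT.nor_inf_le_nor_inf _ _ ⟨C.toHy.le_nor_th _ hmF, self hmc⟩
  obtain ⟨a', ha', c, hcR, hcm, rfl⟩ :=
    DT.cop_decomp C.pp C.qp C.pq hR (C.toHy.pow_eq hm) hmR (r := u) ⟨hu, DT.mem_cen.2 hut⟩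
  refine mul_mem (mul_mem (core _ (qq_le _ (C.cm_le_th hL hm hmc inf_le_right hR hmR ha'))) ?_) (core _ ham)
  by_cases hc1 : c = 1
  · rw [hc1]
    exact one_mem _
  obtain ⟨hK, hcz, hle⟩ := C.blk_of hF hm hmF hcR.1 hc1 hcm
  have hmK : m ∈ sp X (cen c) := hle (mem_sp hm hmF)
  have hct : Commute c t := DT.mem_cen.1 hcR.2
  have hn : cen t ≤ nor (sp X (cen c)) := by
    by_cases hym : y ∈ zpowers m
    · refine C.cen_le_two ht hm hb hc htb ?_ hK hmK hcz hc1 hct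
      rwa [← C.toHy.zp_eq hm hym (C.toHy.ne_one hy)]
    · exact C.cen_le_two ht hm hy hc hty hym hK hmK hcz hc1 hct
  refine I6Aux.core_of (R := zz (sp X (cen c)) ⊓ cen t) inf_le_right
    (fun g hg => DT.nor_inf_le_nor_inf _ _ ⟨nor_le_nor_zz _ (hn hg), self hg⟩)
    (I6Aux.odd_of C.qp C.q2 ((C.blk_pgroup hK).to_le (inf_le_left.trans inf_le_left))) ⟨hcz, hcR.2⟩

end Cfsg.Agent.AF
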