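import Cfsg.Agent.AF.I5
import Cfsg.Agent.AF.I6

set_option autoImplicit false
set_option linter.unusedSectionVars false

namespace Cfsg.Agent.AF

open Cfsg.Agent.DT (cm nor cen cj)
open Subgroup (zpowers)

variable {G : Type*} [Group G] [Finite G] {p q : ℕ} {X : Set G}

theorem odd_part {F : Subgroup G} (hF : Odd (Nat.card F)) {t w : G} (ht : orderOf t = 2)
    (htF : t ∈ nor F) (hw : w ∈ F) : ∃ v ∈ F, Commute v t ∧ IsConj (w * t) (t * v) := by
  have htt : t * t = 1 := by rw [← pow_two, ← ht, pow_orderOf_eq_one]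
  have hti : t⁻¹ = t := inv_eq_of_mul_eq_one_right htt
  have hodd : ∀ a ∈ F, Odd (orderOf a) := fun a ha =>
    Odd.of_dvd_nat hF (F.orderOf_dvd_natCard ha)
  set g := w * t with hg
  have h2 : g ^ 2 ∈ F := by
    have : g ^ 2 = w * (t * w * t⁻¹) := by rw [hti, pow_two, hg]; group
    rw [this]
    exact mul_mem hw ((DT.mem_nor.1 htF w).1 hw)
  obtain ⟨k, hk⟩ := hodd _ h2
  have hn : g ^ (2 * (2 * k + 1)) = 1 := by rw [pow_mul, ← hk, pow_orderOf_eq_one]
  set s := g ^ (2 * k + 1) with hs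
  set v := (g ^ 2) ^ (k + 1) with hv
  have hvF : v ∈ F := pow_mem h2 _
  have hss : s * s = 1 := by rw [hs, ← pow_add, ← hn]; congr 1; ring
  have hsv : s * v = g := by
    rw [hs, hv, ← pow_mul, ← pow_add, show 2 * k + 1 + 2 * (k + 1) = 2 * (2 * k + 1) + 1 by ring, pow_succ, hn,
      one_mul]
  have hc : Commute v s := by
    rw [hs, hv, ← pow_mul]; exact (Commute.refl g).pow_pow _ _
  have hst : s * t ∈ F := by
    have : s * t = (g ^ 2) ^ k * w := by
      rw [hs, pow_succ, pow_mul, mul_assoc, hg, mul_assoc w, htt, mul_one]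
    rw [this]
    exact mul_mem (pow_mem h2 _) hw
  obtain ⟨h, hh, hts⟩ := DT.dihedral_odd hss htt (hodd _ hst)
  have hsF : s ∈ nor F := by
    have : s = s * t * t := by rw [mul_assoc, htt, mul_one]
    rw [this]
    exact mul_mem (Subgroup.le_normalizer hst) htF
  have hhF : h ∈ nor F := by
    refine (Subgroup.closure_le (nor F)).2 ?_ hh
    rintro a (rfl | rfl)
    · exact hsF
    · exact htF
  refine ⟨h * v * h⁻¹, (DT.mem_nor.1 hhF v).1 hvF, ?_, ?_⟩
  · rw [hts]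
    change h * v * h⁻¹ * (h * s * h⁻¹) = h * s * h⁻¹ * (h * v * h⁻¹)
    calc h * v * h⁻¹ * (h * s * h⁻¹) = h * (v * s) * h⁻¹ := by group
      _ = h * (s * v) * h⁻¹ := by rw [hc.eq]
      _ = h * s * h⁻¹ * (h * v * h⁻¹) := by group
  · refine isConj_iff.2 ⟨h, ?_⟩
    rw [← hsv]
    conv_rhs => rw [hts]
    group

theorem Cx.false (C : Cx p q X) : False := by
  obtain ⟨t, ht, y, hy, b, hb, hty, htb, hne⟩ := C.exists_two
  have htt : t * t = 1 := by rw [← pow_two, ← ht, pow_orderOf_eq_one]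
  refine SDP.b0_trick' t y ht (C.ncl hy) fun w hw => ?_
  obtain ⟨g, rfl⟩ := isConj_iff.1 hw
  have hwX : g * y * g⁻¹ ∈ X := C.conj y hy g
  set w := g * y * g⁻¹
  have hw' : t * w * t⁻¹ ∈ X := C.conj w hwX t
  have hodd := C.odd_sp (C.pair_ne_top hwX hw')
  rw [sp_pair hwX hw'] at hodd
  obtain ⟨v, hv, hvt, hc⟩ := odd_part hodd ht (nor_pair htt)
    (Subgroup.mem_sup_left (Subgroup.mem_zpowers w))
  exact ⟨v, C.mem_core ht hy hb hty htb hne hwX hv hvt, hc⟩

end Cfsg.Agent.AF
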