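import Cfsg.Agent.AF.T1

set_option autoImplicit false
set_option linter.unusedSectionVars false

namespace Cfsg.Agent.AF

open Cfsg.Agent.DT (cm nor cen cj)
open Subgroup (zpowers)

variable {G : Type*} [Group G] [Finite G] {p q : ℕ} {X : Set G}

namespace Red2Aux

theorem exists_ab (N : Subgroup G) (hn : N.Normal) (hs : Group.IsSolvable N) (hN : N ≠ ⊥) :
    ∃ A : Subgroup G, A.Normal ∧ A ≠ ⊥ ∧ ∀ a ∈ A, ∀ b ∈ A, a * b = b * a := by
  classical
  have hex : ∃ n, derivedSeries N n = ⊥ := hs.solvable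
  have h0 : Nat.find hex ≠ 0 := by
    intro h0
    have h1 := Nat.find_spec hex
    rw [h0, derivedSeries_zero] at h1
    refine hN (eq_bot_iff.2 fun x hx => ?_)
    have h2 : (⟨x, hx⟩ : N) ∈ (⊥ : Subgroup N) := h1 ▸ Subgroup.mem_top _
    exact congrArg Subtype.val (Subgroup.mem_bot.1 h2)
  obtain ⟨m, hm⟩ := Nat.exists_eq_succ_of_ne_zero h0
  have h1 := Nat.find_spec hex
  have h2 := Nat.find_min hex (m := m) (by omega)
  rw [hm, derivedSeries_succ, Subgroup.commutator_eq_bot_iff_le_centralizer] at h1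
  refine ⟨(derivedSeries N m).map N.subtype, inferInstance, fun h => h2 ?_, ?_⟩
  · exact (Subgroup.map_eq_bot_iff_of_injective _ N.subtype_injective).1 h
  · rintro _ ⟨a, ha, rfl⟩ _ ⟨b, hb, rfl⟩
    exact congrArg Subtype.val (h1 hb a ha)

theorem exists_el (A : Subgroup G) (hn : A.Normal) (hA : A ≠ ⊥) (hc : ∀ a ∈ A, ∀ b ∈ A, a * b = b * a) :
    ∃ (r : ℕ) (M : Subgroup G), r.Prime ∧ M.Normal ∧ M ≠ ⊥ ∧ (∀ a ∈ M, a ^ r = 1) ∧
      ∀ a ∈ M, ∀ b ∈ M, a * b = b * a := by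
  obtain ⟨r, hr, hd⟩ := Nat.exists_prime_and_dvd (n := Nat.card A) (fun h => hA (Subgroup.card_eq_one.1 h))
  have := Fact.mk hr
  obtain ⟨x, hx⟩ := exists_prime_orderOf_dvd_card' r hd
  let M : Subgroup G :=
    { carrier := {a | a ∈ A ∧ a ^ r = 1}
      one_mem' := ⟨one_mem _, one_pow _⟩
      mul_mem' := fun {a b} ha hb => ⟨mul_mem ha.1 hb.1, by
        rw [Commute.mul_pow (hc a ha.1 b hb.1), ha.2, hb.2, one_mul]⟩
      inv_mem' := fun {a} ha => ⟨inv_mem ha.1, by rw [inv_pow, ha.2, inv_one]⟩ }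
  refine ⟨r, M, hr, ⟨fun a ha g => ⟨hn.conj_mem a ha.1 g, by rw [conj_pow, ha.2, mul_one, mul_inv_cancel]⟩⟩,
    fun h => ?_, fun a ha => ha.2, fun a ha b hb => hc a ha.1 b hb.1⟩
  have h1 : (x : G) ∈ M := ⟨x.2, by rw [← Subgroup.coe_pow, ← hx, pow_orderOf_eq_one]; rfl⟩
  rw [h, Subgroup.mem_bot] at h1
  rw [show x = 1 from Subtype.ext h1, orderOf_one] at hx
  exact hr.one_lt.ne hx

end Red2Aux

theorem Hy.exists_nice (h : Hy p q X) (hg : Subgroup.closure X = ⊤) (N : Subgroup G)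
    (hn : N.Normal) (hs : Group.IsSolvable N) (hN : N ≠ ⊥) :
    ∃ M : Subgroup G, M.Normal ∧ M ≠ ⊥ ∧ (IsPGroup q M ∨ M ≤ Subgroup.center G) := by
  obtain ⟨A, a1, a2, a3⟩ := Red2Aux.exists_ab N hn hs hN
  obtain ⟨r, M, hr, m1, m2, m3, m4⟩ := Red2Aux.exists_el A a1 a2 a3
  refine ⟨M, m1, m2, ?_⟩
  by_cases hrq : r = q
  · left
    intro a
    exact ⟨1, Subtype.ext (by rw [pow_one, ← hrq]; exact m3 a a.2)⟩
  right
  intro u hu
  have key : ∀ y ∈ X, u * y = y * u := by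
    intro y hy
    obtain ⟨R, hR, hyR, hb⟩ := h.h1 y hy _ (h.conj y hy u)
    have hw : u * y * u⁻¹ * y⁻¹ ∈ M := by
      have := mul_mem hu (m1.conj_mem _ (inv_mem hu) y)
      simpa only [mul_assoc] using this
    have hw' : u * y * u⁻¹ * y⁻¹ ∈ zpowers y ⊔ R := by
      rw [sup_comm]
      exact mul_mem hb (inv_mem (Subgroup.mem_sup_right (Subgroup.mem_zpowers y)))
    obtain ⟨a, ha, t, ht, e⟩ := (DT.mem_sup_nor (Subgroup.zpowers_le.2 hyR)).1 hw'
    have hap : a ^ p = 1 := by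
      obtain ⟨k, rfl⟩ := ha
      change (y ^ k) ^ p = 1
      rw [← zpow_natCast, ← zpow_mul, mul_comm, zpow_mul, zpow_natCast, h.pow_eq hy, one_zpow]
    have h1 : (QuotientGroup.mk (a * t) : G ⧸ M) = 1 := (QuotientGroup.eq_one_iff _).2 (e ▸ hw)
    have h2 : t ^ p ∈ M := by
      rw [← QuotientGroup.eq_one_iff, QuotientGroup.mk_pow]
      rw [QuotientGroup.mk_mul] at h1
      rw [eq_inv_of_mul_eq_one_right h1, inv_pow, ← QuotientGroup.mk_pow, hap, QuotientGroup.mk_one, inv_one]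
    have h3 : orderOf t ∣ p * r := orderOf_dvd_of_pow_eq_one (by rw [pow_mul]; exact m3 _ h2)
    obtain ⟨k, hk⟩ := hR ⟨t, ht⟩
    have h4 : orderOf t ∣ q ^ k := orderOf_dvd_of_pow_eq_one (congrArg Subtype.val hk)
    have h5 : (p * r).Coprime (q ^ k) :=
      Nat.Coprime.pow_right k (Nat.Coprime.mul_left ((Nat.coprime_primes h.pp h.qp).2 h.pq)
        ((Nat.coprime_primes hr h.qp).2 hrq))
    have h6 : t = 1 := orderOf_eq_one_iff.1 (Nat.eq_one_of_dvd_coprimes h5 h3 h4)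
    rw [h6, mul_one] at e
    by_cases h7 : a = 1
    · rw [h7] at e
      exact mul_inv_eq_iff_eq_mul.1 (mul_inv_eq_one.1 e)
    · have h8 : y ∈ zpowers a := h.zp_eq hy ha h7 ▸ Subgroup.mem_zpowers y
      exact m4 u hu y (Subgroup.zpowers_le.2 (e ▸ hw) h8)
  rw [Subgroup.mem_center_iff]
  intro g
  have h9 : Subgroup.closure X ≤ Subgroup.centralizer ({u} : Set G) :=
    (Subgroup.closure_le _).2 fun y hy => Subgroup.mem_centralizer_singleton_iff.2 (key y hy).symm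
  exact Subgroup.mem_centralizer_singleton_iff.1 (h9 (hg ▸ Subgroup.mem_top g))

end Cfsg.Agent.AF
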