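import Cfsg.Agent.AF.T1

set_option autoImplicit false
set_option linter.unusedSectionVars false

namespace Cfsg.Agent.AF

open Cfsg.Agent.DT (cm nor cen cj)
open Subgroup (zpowers)

variable {G : Type*} [Group G] [Finite G] {p q : ℕ} {X : Set G}

namespace SubAux

theorem map_nor {G' : Type*} [Group G'] (f : G →* G') {R : Subgroup G} {y : G} (h : y ∈ nor R) :
    f y ∈ nor (R.map f) :=
  Subgroup.le_normalizer_map f (Subgroup.mem_map_of_mem f h)

theorem comm_coe {L : Subgroup G} {a b : L} : Commute (a : G) (b : G) ↔ Commute a b :=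
  ⟨fun h => Subtype.ext h, fun h => congrArg Subtype.val h⟩

theorem mem_cm {L : Subgroup G} {R : Subgroup L} {y b : L} :
    (b : G) ∈ cm (R.map L.subtype) (y : G) ↔ b ∈ cm R y := by
  rw [← Subgroup.mem_map_iff_mem (f := L.subtype) L.subtype_injective, Subgroup.map_commutator,
    MonoidHom.map_zpowers]
  rfl

theorem mem_zp {L : Subgroup G} {a b : L} : (b : G) ∈ zpowers (a : G) ↔ b ∈ zpowers a := by
  rw [← Subgroup.mem_map_iff_mem (f := L.subtype) L.subtype_injective, MonoidHom.map_zpowers]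
  rfl

theorem mem_zp2 {L : Subgroup G} {a b c : L} :
    (c : G) ∈ zpowers (a : G) ⊔ zpowers (b : G) ↔ c ∈ zpowers a ⊔ zpowers b := by
  rw [← Subgroup.mem_map_iff_mem (f := L.subtype) L.subtype_injective, Subgroup.map_sup, MonoidHom.map_zpowers,
    MonoidHom.map_zpowers]
  rfl

end SubAux

open SubAux

theorem Hy.sub (h : Hy p q X) (L : Subgroup G) : Hy p q (Subtype.val ⁻¹' X : Set L) where
  pp := h.pp
  qp := h.qp
  p2 := h.p2
  q2 := h.q2
  pq := h.pq
  ord := fun y hy => (Subgroup.orderOf_coe y).symm.trans (h.ord y hy)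
  conj := fun y hy g => h.conj y hy g
  pw := fun y hy a ha h1 => h.pw y hy a (mem_zp.2 ha) fun e => h1 (Subtype.ext e)
  h1 := fun y hy b hb => by
    obtain ⟨R, h1, h2, h3⟩ := h.h1 y hy b hb
    refine ⟨R.subgroupOf L, h1.comap_subtype, DT.mem_nor.2 fun a => DT.mem_nor.1 h2 a, ?_⟩
    rw [sup_comm, DT.mem_sup_nor (Subgroup.zpowers_le.2 h2)] at h3
    obtain ⟨a, ha, r, hr, e⟩ := h3
    have haL : a ∈ L := Subgroup.zpowers_le.2 y.2 ha
    have hrL : r ∈ L := by
      rw [eq_comm, ← eq_inv_mul_iff_mul_eq] at e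
      exact e ▸ L.mul_mem (L.inv_mem haL) b.2
    rw [show b = ⟨a, haL⟩ * ⟨r, hrL⟩ from Subtype.ext e]
    exact Subgroup.mul_mem _ (Subgroup.mem_sup_right (mem_zp.1 ha)) (Subgroup.mem_sup_left hr)
  h3 := fun a ha b hb c hc h1 h2 => mem_zp2.1 (h.h3 a ha b hb c hc (mem_zp2.2 h1) fun e => h2 (mem_zp.1 e))
  h2 := fun y hy R hR hn z hz hc b hb => comm_coe.1 (h.h2 y hy (R.map L.subtype) (hR.map _) (map_nor L.subtype hn)
    z (mem_cm.2 hz) (comm_coe.2 hc) b (mem_cm.2 hb))
  h4 := h.h4.imp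
    (fun hf y hy R hR hn z hz hc => Subtype.ext (hf y hy (R.map L.subtype) (hR.map _) (map_nor L.subtype hn)
      z (mem_cm.2 hz) (comm_coe.2 hc)))
    fun hf y hy R hR hn a ha b hb => comm_coe.1 (hf y hy (R.map L.subtype) (hR.map _) (map_nor L.subtype hn)
      a (mem_cm.2 ha) b (mem_cm.2 hb))

theorem gen_sub (X : Set G) (L : Subgroup G) :
    Subgroup.closure (Subtype.val ⁻¹' X : Set (sp X L)) = ⊤ := by
  exact eq_top_iff.2 ((Subgroup.closure_closure_coe_preimage (k := X ∩ (L : Set G))).ge.trans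
    (Subgroup.closure_mono fun y hy => hy.1))

theorem loc_of_good (L : Subgroup G) (h : Good q (Subtype.val ⁻¹' X : Set (sp X L))) :
    ∃ T : Subgroup G, IsPGroup q T ∧ T ≤ sp X L ∧ sp X L ≤ nor T ∧
      ∀ y ∈ X, y ∈ L → T ⊔ zpowers y = sp X L := by
  obtain ⟨Q, hn, hq, hs⟩ := h
  refine ⟨Q.map (sp X L).subtype, hq.map _, Subgroup.map_subtype_le _, fun g hg => ?_, fun y hy hL => ?_⟩
  · exact map_nor (sp X L).subtype (y := ⟨g, hg⟩) ((Subgroup.normalizer_eq_top Q).ge (Subgroup.mem_top _))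
  · have := congrArg (Subgroup.map (sp X L).subtype) (hs ⟨y, mem_sp hy hL⟩ hy)
    rwa [Subgroup.map_sup, MonoidHom.map_zpowers, ← MonoidHom.range_eq_map, Subgroup.range_subtype] at this

end Cfsg.Agent.AF
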