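import Cfsg.Agent.AF.Red
import Cfsg.Agent.AF.Red2
import Cfsg.Agent.AF.Sub
import Cfsg.Agent.AF.I7

set_option autoImplicit false
set_option linter.unusedSectionVars false

namespace Cfsg.Agent.AF

open Cfsg.Agent.DT (cm nor cen cj)
open Subgroup (zpowers)

namespace IndAux

universe u

theorem gen_quot {G : Type u} [Group G] {X : Set G} (hg : Subgroup.closure X = ⊤) (N : Subgroup G)
    [N.Normal] : Subgroup.closure ((QuotientGroup.mk' N) '' X) = ⊤ := by
  rw [← MonoidHom.map_closure, hg, ← MonoidHom.range_eq_map]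
  exact MonoidHom.range_eq_top.2 (QuotientGroup.mk'_surjective N)

theorem card_quot_lt {G : Type u} [Group G] [Finite G] (N : Subgroup G) [N.Normal] (hN : N ≠ ⊥) :
    Nat.card (G ⧸ N) < Nat.card G := by
  have h1 : Nat.card G = Nat.card (G ⧸ N) * Nat.card N :=
    Subgroup.card_eq_card_quotient_mul_card_subgroup N
  have h2 : 1 < Nat.card N := (Subgroup.one_lt_card_iff_ne_bot N).2 hN
  have h3 : 0 < Nat.card (G ⧸ N) := Nat.card_pos
  rw [h1]
  exact lt_mul_of_one_lt_right h3 h2

theorem card_sub_lt {G : Type u} [Group G] [Finite G] (L : Subgroup G) (hL : L ≠ ⊤) :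
    Nat.card L < Nat.card G := by
  have h1 : Nat.card L ≤ Nat.card G := Subgroup.card_le_card_group L
  rcases h1.lt_or_eq with h | h
  · exact h
  · exact absurd (Subgroup.eq_top_of_card_eq L h) hL

theorem main (p q : ℕ) (n : ℕ) : ∀ (G : Type u) [Group G] [Finite G] (X : Set G),
    Nat.card G = n → Hy p q X → Subgroup.closure X = ⊤ → Good q X := by
  induction n using Nat.strong_induction_on with
  | _ n ih =>
    intro G _ _ X hn h hg
    by_cases hex : ∃ N : Subgroup G, N.Normal ∧ N ≠ ⊥ ∧ (IsPGroup q N ∨ N ≤ Subgroup.center G)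
    · obtain ⟨N, hNn, hN1, hN⟩ := hex
      by_cases hy : ∃ y ∈ X, y ∈ N
      · obtain ⟨y, hy, hyN⟩ := hy
        exact h.good_of_mem hg N hN hy hyN
      · have hy' : ∀ y ∈ X, y ∉ N := fun y hyX hyN => hy ⟨y, hyX, hyN⟩
        refine h.good_of_quot hg N hN ?_
        exact ih _ (hn ▸ card_quot_lt N hN1) (G ⧸ N) _ rfl (h.quot N hN hy') (gen_quot hg N)
    · by_cases hX : X.Nonempty
      · exfalso
        have C : Cx p q X :=
          { toHy := h
            gen := hg
            nt := hX
            sol := fun N hNn hs => by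
              by_contra hN1
              exact hex (h.exists_nice hg N hNn hs hN1)
            loc := fun L hL => by
              have hne : sp X L ≠ ⊤ := fun e => hL (top_le_iff.1 (e ▸ sp_le X L))
              exact loc_of_good L (ih _ (hn ▸ card_sub_lt _ hne) (sp X L) _ rfl (h.sub _)
                (gen_sub X L)) }
        exact C.false
      · refine ⟨⊥, inferInstance, IsPGroup.of_bot, fun y hy => absurd ⟨y, hy⟩ hX⟩

end IndAux

variable {G : Type*} [Group G] [Finite G] {p q : ℕ} {X : Set G}

theorem Hy.good (h : Hy p q X) (hg : Subgroup.closure X = ⊤) : Good q X :=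
  IndAux.main p q _ G X rfl h hg

end Cfsg.Agent.AF
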