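import Cfsg.Agent.AF.B1

set_option autoImplicit false
set_option linter.unusedSectionVars false

namespace Cfsg.Agent.AF

open Cfsg.Agent.DT (cm nor cen cj)
open Subgroup (zpowers)

variable {G : Type*} [Group G] [Finite G] {p q : ℕ} {X : Set G}

namespace LAfAux

theorem nor_of {R : Subgroup G} {g : G} (h : ∀ a ∈ R, g * a * g⁻¹ ∈ R) : g ∈ nor R :=
  Subgroup.mem_normalizer_fintype (S := (R : Set G)) h

theorem conj_eq {g a : G} (h : Commute g a) : g * a * g⁻¹ = a := by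
  rw [h.eq, mul_inv_cancel_right]

theorem nor_of_comm {R : Subgroup G} {g : G} (h : ∀ a ∈ R, Commute g a) : g ∈ nor R :=
  nor_of fun a ha => by rw [conj_eq (h a ha)]; exact ha

theorem comm_of {a b : G} (h : a * b * a⁻¹ * b⁻¹ = 1) : Commute a b := by
  have : a * b = b * a := by
    calc a * b = (a * b * a⁻¹ * b⁻¹) * (b * a) := by group
      _ = b * a := by rw [h, one_mul]
  exact this

end LAfAux

open LAfAux

theorem Cx.laf (C : Cx p q X) {K S : Subgroup G} (h : Blk X K) {y : G} (hy : y ∈ X) (hyK : y ∈ K)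
    (hS : Cc q K y S)
    (hmax : ∀ R, Cc q K y R → qq K ⊓ cm S y ≤ cm R y →
      Nat.card (R ⊓ zz K : Subgroup G) ≤ Nat.card (S ⊓ zz K : Subgroup G))
    (hf : ∀ w ∈ cm S y, Commute w y → w = 1) : False := by
  obtain ⟨hSq, hyS, ⟨z, hz, hz1, hzS⟩, hnle⟩ := hS
  have hyp : y ^ p = 1 := C.toHy.pow_eq hy
  have hQS : cm S y ≤ S := DT.cm_le hyS
  have hQq : IsPGroup q (cm S y) := hSq.to_le hQS
  have hyQ : y ∈ nor (cm S y) := DT.mem_nor_cm S y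
  have hSQ : S ≤ nor (cm S y) := DT.le_nor_cm S y
  -- `cm S y` is abelian
  have hab : ∀ a ∈ cm S y, ∀ b ∈ cm S y, Commute a b := by
    intro a ha b hb
    refine comm_of (hf _ ?_ (C.spec_of_blk h y hy S hSq hyS a ha b hb))
    exact mul_mem (mul_mem (mul_mem ha hb) (inv_mem ha)) (inv_mem hb)
  -- invariant subgroups
  have hV : ∀ V : Subgroup G, V ≤ cm S y → y ∈ nor V → V ≤ cm V y := by
    intro V hVQ hyV r hr
    obtain ⟨a, ha, c, hc, hcy, rfl⟩ :=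
      DT.cop_decomp C.pp C.qp C.pq (hQq.to_le hVQ) hyp hyV hr
    rw [hf c (hVQ hc) hcy, mul_one]
    exact ha
  have hKq : IsPGroup q (qq K) := C.blk_pgroup h
  have hZq : IsPGroup q (zz K) := hKq.to_le inf_le_left
  have hKnor : K ≤ nor K := Subgroup.le_normalizer
  have hyqq : y ∈ nor (qq K) := nor_le_nor_qq K (hKnor hyK)
  have hyZ : y ∈ nor (zz K) := nor_le_nor_zz K (hKnor hyK)
  have hzy : Commute z y := (mem_zz.1 hz).2 y hyK
  have hWne : qq K ⊓ cm S y ≠ cm S y := fun e => hnle (e ▸ inf_le_left)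
  have hWq : IsPGroup q (qq K ⊓ cm S y : Subgroup G) := hKq.to_le inf_le_left
  have hyW : y ∈ nor (qq K ⊓ cm S y) := DT.nor_inf_le_nor_inf _ _ ⟨hyqq, hyQ⟩
  -- `W ≠ ⊥`
  have hWbot : qq K ⊓ cm S y ≠ ⊥ := by
    have hQbot : (⊥ : Subgroup G) ≠ cm S y := fun e => hnle (e ▸ bot_le)
    have hnb : ∀ H : Subgroup G, H ≤ nor (⊥ : Subgroup G) := fun H g _ =>
      nor_of_comm fun a ha => by rw [Subgroup.mem_bot.1 ha]; exact Commute.one_right g
    obtain ⟨v, hv, hv1, hve⟩ := DT.fix_coset C.qp hSq hQq bot_le hQbot (hnb _) hSQ (hnb _)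
    have hvz : Commute v z := comm_of (Subgroup.mem_bot.1 (hve z hzS))
    have hyc : y ∈ cen z := DT.mem_cen.2 hzy.symm
    have hy0 : y ∈ nor (cm S y ⊓ cen z) :=
      DT.nor_inf_le_nor_inf _ _ ⟨hyQ, Subgroup.le_normalizer hyc⟩
    have h1 : cm (cm S y ⊓ cen z) y ≤ th X (cen z) :=
      C.cm_le_th (C.cen_ne_top hz1) hy hyc inf_le_right (hQq.to_le inf_le_left) hy0
    have h2 : v ∈ th X (cen z) := h1 (hV _ inf_le_left hy0 ⟨hv, DT.mem_cen.2 hvz⟩)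
    have h3 : v ∈ qq K := by
      have := C.blk_cen h hz hz1
      simpa only [th, this] using h2
    intro e
    exact hv1 (e ▸ (⟨h3, hv⟩ : v ∈ qq K ⊓ cm S y))
  have hL : nor (qq K ⊓ cm S y) ≠ ⊤ := C.nor_ne_top C.qp hWq hWbot
  have hQL : cm S y ≤ nor (qq K ⊓ cm S y) := fun g hg =>
    nor_of_comm fun a ha => hab g hg a ha.2
  have hZL : zz K ≤ nor (qq K ⊓ cm S y) := fun g hg =>
    nor_of_comm fun a ha => (mem_zz.1 hg).2 a (qq_le K ha.1)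
  -- `zz K ≤ S`
  have hZS : zz K ≤ S := by
    have hth := C.toHy.le_nor_th (nor (qq K ⊓ cm S y))
    have hQth : cm S y ≤ th X (nor (qq K ⊓ cm S y)) :=
      (hV _ le_rfl hyQ).trans (C.cm_le_th hL hy hyW hQL hQq hyQ)
    have hQR : cm S y ≤ cm (zz K ⊔ th X (nor (qq K ⊓ cm S y))) y :=
      (hV _ le_rfl hyQ).trans (Subgroup.commutator_mono (hQth.trans le_sup_right) le_rfl)
    have hR : Cc q K y (zz K ⊔ th X (nor (qq K ⊓ cm S y))) :=
      ⟨DT.sup_pgroup hZq (C.th_pgroup hL) (hZL.trans hth),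
        DT.nor_inf_le_nor_sup _ _ ⟨hyZ, hth hyW⟩,
        ⟨z, hz, hz1, Subgroup.mem_sup_left hz⟩, fun e => hnle (hQR.trans e)⟩
    have hc := hmax _ hR (inf_le_right.trans hQR)
    rw [inf_eq_right.2 le_sup_left] at hc
    have := Subgroup.eq_of_le_of_card_ge (inf_le_right : S ⊓ zz K ≤ zz K) hc
    exact this ▸ inf_le_left
  obtain ⟨v, hv, hvW, hve⟩ :=
    DT.fix_coset C.qp hZq hQq inf_le_right hWne hQL (hZS.trans hSQ) hZL
  have hAle : (qq K ⊓ cm S y) ⊔ zz K ≤ qq K := sup_le inf_le_left inf_le_left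
  have hAbot : (qq K ⊓ cm S y) ⊔ zz K ≠ ⊥ := fun e => hWbot (le_bot_iff.1 (e ▸ le_sup_left))
  have hA : nor ((qq K ⊓ cm S y) ⊔ zz K) ≠ ⊤ := C.nor_ne_top C.qp (hKq.to_le hAle) hAbot
  have hyA : y ∈ nor ((qq K ⊓ cm S y) ⊔ zz K) := DT.nor_inf_le_nor_sup _ _ ⟨hyW, hyZ⟩
  have hKA : K ≤ nor ((qq K ⊓ cm S y) ⊔ zz K) := by
    have h1 : qq K ⊔ zpowers y ≤ nor ((qq K ⊓ cm S y) ⊔ zz K) :=
      sup_le (C.le_nor_of_zz_le h le_sup_right hAle) ((Subgroup.zpowers_le).2 hyA)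
    exact (C.blk_sup h hy hyK).ge.trans h1
  have hsp := C.blk_max h hKA hA
  have hvA : v ∈ nor ((qq K ⊓ cm S y) ⊔ zz K) := by
    refine nor_of fun a ha => ?_
    have hWZ : qq K ⊓ cm S y ≤ nor (zz K) :=
      inf_le_left.trans ((qq_le K).trans (hKnor.trans (nor_le_nor_zz K)))
    obtain ⟨w, hw, e, he, rfl⟩ := (DT.mem_sup_nor hWZ).1 ha
    have : v * (w * e) * v⁻¹ = (v * w * v⁻¹) * (v * e * v⁻¹ * e⁻¹) * e := by group
    rw [this, conj_eq (hab v hv w hw.2)]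
    exact mul_mem (Subgroup.mem_sup_left (mul_mem hw (hve e he))) (Subgroup.mem_sup_right he)
  have hy0 : y ∈ nor (cm S y ⊓ nor ((qq K ⊓ cm S y) ⊔ zz K)) :=
    DT.nor_inf_le_nor_inf _ _ ⟨hyQ, Subgroup.le_normalizer hyA⟩
  have h1 : cm (cm S y ⊓ nor ((qq K ⊓ cm S y) ⊔ zz K)) y ≤ th X (nor ((qq K ⊓ cm S y) ⊔ zz K)) :=
    C.cm_le_th hA hy hyA inf_le_right (hQq.to_le inf_le_left) hy0
  have h2 : v ∈ th X (nor ((qq K ⊓ cm S y) ⊔ zz K)) := h1 (hV _ inf_le_left hy0 ⟨hv, hvA⟩)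
  have h3 : v ∈ qq K := by
    have e : th X (nor ((qq K ⊓ cm S y) ⊔ zz K)) = qq K := congrArg qq hsp
    exact e ▸ h2
  exact hvW ⟨h3, hv⟩

end Cfsg.Agent.AF
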