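import Cfsg.Agent.AF.LAc
import Cfsg.Agent.AF.LAf

set_option autoImplicit false
set_option linter.unusedSectionVars false

namespace Cfsg.Agent.AF

open Cfsg.Agent.DT (cm nor cen cj)
open Subgroup (zpowers)

variable {G : Type*} [Group G] [Finite G] {p q : ℕ} {X : Set G}

namespace LAAux

theorem ex_max (P : Subgroup G → Prop) (f : Subgroup G → ℕ) (h : ∃ S, P S) :
    ∃ S, P S ∧ ∀ R, P R → f R ≤ f S := by
  obtain ⟨S, hS, hm⟩ := Set.exists_max_image {S | P S} f (Set.toFinite _) h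
  exact ⟨S, hS, fun R hR => hm R hR⟩

theorem cm_mono {R R' : Subgroup G} (y : G) (h : R ≤ R') : cm R y ≤ cm R' y :=
  Subgroup.commutator_mono h le_rfl

theorem cc_up {K S S' : Subgroup G} {y : G} (hS : Cc q K y S) (h1 : IsPGroup q S')
    (h2 : y ∈ nor S') (h : S ≤ S') : Cc q K y S' := by
  obtain ⟨-, -, ⟨z, hz, hz1, hzS⟩, hn⟩ := hS
  exact ⟨h1, h2, ⟨z, hz, hz1, h hzS⟩, fun hle => hn ((cm_mono y h).trans hle)⟩

theorem mem_nor_zp {y z : G} (h : Commute z y) : y ∈ nor (zpowers z) := by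
  have key : ∀ g : G, Commute z g → ∀ a ∈ zpowers z, g * a * g⁻¹ = a := by
    rintro g hg a ⟨k, rfl⟩
    have : Commute (z ^ k) g := hg.zpow_left k
    show g * z ^ k * g⁻¹ = z ^ k
    rw [← this.eq]; group
  rw [DT.mem_nor]
  intro a
  constructor
  · intro ha
    rw [key y h a ha]; exact ha
  · intro ha
    have e := key y⁻¹ h.inv_right _ ha
    have e2 : y⁻¹ * (y * a * y⁻¹) * y⁻¹⁻¹ = a := by group
    rw [e2] at e
    rw [e]; exact ha

end LAAux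

open LAAux

/-- Lemma A. -/
theorem Cx.la (C : Cx p q X) {K R : Subgroup G} (h : Blk X K) {y : G} (hy : y ∈ X) (hyK : y ∈ K)
    (hR : IsPGroup q R) (hyR : y ∈ nor R) {z : G} (hz : z ∈ zz K) (hz1 : z ≠ 1) (hzR : z ∈ nor R) :
    cm R y ≤ qq K := by
  by_contra hn
  have hzq : z ∈ qq K := (mem_zz.1 hz).1
  have hzy : Commute z y := (mem_zz.1 hz).2 y hyK
  have hZ : IsPGroup q (zpowers z) :=
    (C.blk_pgroup h).to_le ((Subgroup.zpowers_le).2 hzq)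
  have h0 : Cc q K y (zpowers z ⊔ R) := by
    refine ⟨DT.sup_pgroup hZ hR ((Subgroup.zpowers_le).2 hzR),
      DT.nor_inf_le_nor_sup _ _ ⟨mem_nor_zp hzy, hyR⟩,
      ⟨z, hz, hz1, Subgroup.mem_sup_left (Subgroup.mem_zpowers z)⟩, fun hle => hn ?_⟩
    exact (cm_mono y le_sup_right).trans hle
  obtain ⟨S1, hS1, m1⟩ := ex_max (fun S => Cc q K y S)
    (fun S => Nat.card (qq K ⊓ cm S y : Subgroup G)) ⟨_, h0⟩
  obtain ⟨S2, ⟨hS2, a2⟩, m2⟩ := ex_max (fun S => Cc q K y S ∧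
      Nat.card (qq K ⊓ cm S1 y : Subgroup G) ≤ Nat.card (qq K ⊓ cm S y : Subgroup G))
    (fun S => Nat.card (S ⊓ zz K : Subgroup G)) ⟨S1, hS1, le_rfl⟩
  obtain ⟨S, ⟨hS, a3, b3⟩, m3⟩ := ex_max (fun S => Cc q K y S ∧
      Nat.card (qq K ⊓ cm S1 y : Subgroup G) ≤ Nat.card (qq K ⊓ cm S y : Subgroup G) ∧
      Nat.card (S2 ⊓ zz K : Subgroup G) ≤ Nat.card (S ⊓ zz K : Subgroup G))
    (fun S => Nat.card S) ⟨S2, hS2, a2, le_rfl⟩
  by_cases hf : ∀ w ∈ cm S y, Commute w y → w = 1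
  · refine C.laf h hy hyK hS (fun R' hR' hle => ?_) hf
    have e1 : Nat.card (qq K ⊓ cm S y : Subgroup G) ≤ Nat.card (qq K ⊓ cm R' y : Subgroup G) :=
      Subgroup.card_le_of_le (le_inf inf_le_left hle)
    exact (m2 R' ⟨hR', a3.trans e1⟩).trans b3
  · push Not at hf
    obtain ⟨w, hw, hc, hw1⟩ := hf
    refine C.lac h hy hyK hS (fun S' h1 h2 hle => ?_) (fun R' hR' => (m1 R' hR').trans a3) hw hw1 hc
    have e1 : Nat.card (qq K ⊓ cm S y : Subgroup G) ≤ Nat.card (qq K ⊓ cm S' y : Subgroup G) :=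
      Subgroup.card_le_of_le (inf_le_inf_left _ (cm_mono y hle))
    have e2 : Nat.card (S ⊓ zz K : Subgroup G) ≤ Nat.card (S' ⊓ zz K : Subgroup G) :=
      Subgroup.card_le_of_le (inf_le_inf_right _ hle)
    have e3 : Nat.card S' ≤ Nat.card S := m3 S' ⟨cc_up hS h1 h2 hle, a3.trans e1, b3.trans e2⟩
    exact (Subgroup.eq_of_le_of_card_ge hle e3).symm

theorem Cx.la_loc (C : Cx p q X) {K L : Subgroup G} (h : Blk X K) (hL : L ≠ ⊤) {y : G} (hy : y ∈ X)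
    (hyK : y ∈ K) (hyL : y ∈ L) {z : G} (hz : z ∈ zz K) (hz1 : z ≠ 1) (hzL : z ∈ L) :
    sp X L ≤ K := by
  have h1 := C.la h hy hyK (C.th_pgroup hL) (C.toHy.le_nor_th L hyL) hz hz1
    (C.toHy.le_nor_th L hzL)
  rw [C.th_cm hL hy hyL] at h1
  rw [← C.sp_eq hL hy hyL]
  exact sup_le (h1.trans (qq_le K)) ((Subgroup.zpowers_le).2 hyK)

theorem Cx.la_blk (C : Cx p q X) {K1 K2 : Subgroup G} (h1 : Blk X K1) (h2 : Blk X K2)
    (hne : K1 ≠ K2) {y : G} (hy : y ∈ X) (hy1 : y ∈ K1) (hy2 : y ∈ K2) {z : G} (hz : z ∈ zz K1)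
    (hz2 : z ∈ nor K2) : z = 1 := by
  by_contra hz1
  have h3 := C.la h1 hy hy1 (C.blk_pgroup h2) (nor_le_nor_qq K2 (Subgroup.le_normalizer hy2)) hz hz1
    (nor_le_nor_qq K2 hz2)
  rw [C.blk_cm h2 hy hy2] at h3
  exact hne (C.blk_eq_of_le h2 h1 hy hy2 hy1 h3).symm

end Cfsg.Agent.AF
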