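import Cfsg.Agent.AF.B1
import Cfsg.Agent.DT.LA1

set_option autoImplicit false
set_option linter.unusedSectionVars false

namespace Cfsg.Agent.AF

open Cfsg.Agent.DT (cm nor cen cj)
open Subgroup (zpowers)
open Cfsg.Agent.DT (mem_nor mem_cen fix_coset three_mod mem_sup_nor nor_inf_le_nor_sup nor_inf_le_nor_inf
  cm_le cm_le_of cm_eq_bot_iff cop_cm_cm cop_decomp mem_nor_cm)
open Cfsg.Agent.DT.LA1Aux (nor_of conj_sup conj_eq nor_bot star)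

variable {G : Type*} [Group G] [Finite G] {p q : ℕ} {X : Set G}

theorem Cx.la_sym (C : Cx p q X) {K1 K2 : Subgroup G} (h1 : Blk X K1) (h2 : Blk X K2) {z : G}
    (hz : z ∈ zz K1) (hz1 : z ≠ 1) (hz2 : z ∈ nor K2) : ∃ w ∈ zz K2, w ≠ 1 ∧ w ∈ nor K1 := by
  obtain ⟨w0, hw0, hw1, -⟩ := id h2
  have hE : IsPGroup q (zpowers z) := (C.blk_pgroup h1).to_le ((Subgroup.zpowers_le).2 hz.1)
  obtain ⟨w, hw, hwb, hc⟩ := fix_coset C.qp hE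
    ((C.blk_pgroup h2).to_le inf_le_left : IsPGroup q (zz K2)) (N := ⊥) bot_le
    (fun h => hw1 (Subgroup.mem_bot.1 (h ▸ hw0))) (fun g _ => nor_bot g)
    ((Subgroup.zpowers_le).2 (nor_le_nor_zz K2 hz2)) (fun g _ => nor_bot g)
  refine ⟨w, hw, fun h => hwb (h ▸ Subgroup.one_mem _), C.cen_le_nor h1 hz hz1 (mem_cen.2 ?_)⟩
  have := Subgroup.mem_bot.1 (hc z (Subgroup.mem_zpowers z))
  rw [mul_inv_eq_one, mul_inv_eq_iff_eq_mul] at this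
  exact this

theorem Cx.la1 (C : Cx p q X) {K1 K2 : Subgroup G} (h1 : Blk X K1) (h2 : Blk X K2) (hne : K1 ≠ K2)
    {y : G} (hy : y ∈ X) (hy1 : y ∈ K1) (hy2 : y ∈ K2)
    (hE : ∃ w ∈ zz K2, w ≠ 1 ∧ w ∈ nor K1) :
    ∃ U : Subgroup G, U ≤ qq K1 ∧ ¬ U ≤ qq K2 ∧ cm U y = U ∧ y ∈ nor U ∧
      U ≤ nor ((qq K1 ⊓ qq K2) ⊔ ((zz K1 ⊓ nor K2) ⊔ (zz K2 ⊓ nor K1))) := by
  obtain ⟨e0, he0, he1, he2⟩ := hE
  have hyp : y ^ p = 1 := C.toHy.pow_eq hy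
  have zc : ∀ {K : Subgroup G} {z a : G}, z ∈ zz K → a ∈ qq K → Commute z a := fun hz ha =>
    (mem_zz.1 hz).2 _ (qq_le _ ha)
  have nK : ∀ {K : Subgroup G} {a : G}, a ∈ qq K → a ∈ nor K := fun ha =>
    Subgroup.le_normalizer (qq_le _ ha)
  have y1 : y ∈ nor K1 := Subgroup.le_normalizer hy1
  have y2 : y ∈ nor K2 := Subgroup.le_normalizer hy2
  -- `[E1, E2] = 1`
  have hEE : ∀ a ∈ zz K1 ⊓ nor K2, ∀ e ∈ zz K2 ⊓ nor K1, Commute e a := by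
    intro a ha e he
    have m1 : e * a * e⁻¹ * a⁻¹ ∈ zz K1 :=
      Subgroup.mul_mem _ ((mem_nor.1 (nor_le_nor_zz K1 he.2) _).1 ha.1) (Subgroup.inv_mem _ ha.1)
    have m2 : e * a * e⁻¹ * a⁻¹ ∈ zz K2 := by
      have e1 : e * a * e⁻¹ * a⁻¹ = e * (a * e⁻¹ * a⁻¹) := by group
      rw [e1]
      exact Subgroup.mul_mem _ he.1
        ((mem_nor.1 (nor_le_nor_zz K2 ha.2) _).1 (Subgroup.inv_mem _ he.1))
    have := C.blk_ti h1 h2 hne m1 m2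
    rw [mul_inv_eq_one, mul_inv_eq_iff_eq_mul] at this
    exact this
  have hN0 : qq K1 ⊓ qq K2 ⊔ zz K1 ≤ qq K1 := sup_le inf_le_left inf_le_left
  have hQN : qq K1 ≤ nor (qq K1 ⊓ qq K2 ⊔ zz K1) := C.le_nor_of_zz_le h1 le_sup_right hN0
  have hgen : ∀ g, g ∈ nor K1 → g ∈ nor K2 → g ∈ nor (qq K1 ⊓ qq K2 ⊔ zz K1) := fun g g1 g2 =>
    nor_inf_le_nor_sup _ _ ⟨nor_inf_le_nor_inf _ _ ⟨nor_le_nor_qq K1 g1, nor_le_nor_qq K2 g2⟩,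
      nor_le_nor_zz K1 g1⟩
  have hEN : zz K2 ⊓ nor K1 ≤ nor (qq K1 ⊓ qq K2 ⊔ zz K1) := fun e he => hgen e he.2 (nK he.1.1)
  have hyE : ∀ e ∈ zz K2 ⊓ nor K1, Commute e y := fun e he => (mem_zz.1 he.1).2 y hy2
  obtain ⟨v0, hv0, hv1, hv2⟩ := fix_coset C.qp
    ((C.blk_pgroup h2).to_le (inf_le_left.trans inf_le_left) : IsPGroup q (zz K2 ⊓ nor K1 : Subgroup G))
    (C.blk_pgroup h1) hN0 (fun h => C.not_le_sup h1 h2 hne hy hy1 hy2 h.ge) hQN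
    (inf_le_right.trans (nor_le_nor_qq K1)) hEN
  set S := star (qq K1) (zz K2 ⊓ nor K1) (qq K1 ⊓ qq K2 ⊔ zz K1) hQN with hS
  have hSQ : S ≤ qq K1 := fun v hv => hv.1
  have hSp : IsPGroup q S := (C.blk_pgroup h1).to_le hSQ
  have hyS : y ∈ nor S := nor_of fun v hv =>
    ⟨(mem_nor.1 (nor_le_nor_qq K1 y1) _).1 hv.1, fun e he => by
      have e1 : y * v * y⁻¹ * e * (y * v * y⁻¹)⁻¹ * e⁻¹ =
          y * (v * (y⁻¹ * e * y⁻¹⁻¹) * v⁻¹ * (y⁻¹ * e * y⁻¹⁻¹)⁻¹) * y⁻¹ := by group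
      rw [e1, conj_eq (hyE e he).symm.inv_left]
      exact (mem_nor.1 (hgen y y1 y2) _).1 (hv.2 e he)⟩
  have hUS : cm S y ≤ S := cm_le hyS
  have hWZ : qq K1 ⊓ qq K2 ≤ nor (zz K1) := fun w hw => nor_le_nor_zz K1 (nK hw.1)
  -- `N0` centralises `W`
  have hNW : ∀ n ∈ qq K1 ⊓ qq K2 ⊔ zz K1, ∀ w ∈ qq K1 ⊓ qq K2, Commute n w := by
    intro n hn w hw
    obtain ⟨a, ha, b, hb, rfl⟩ := (mem_sup_nor hWZ).1 hn
    exact (C.inf_comm h1 h2 hne hy hy1 hy2 ha hw).mul_left (zc hb hw.1)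
  -- `[S, W] ≤ E1`
  have hSW : ∀ v ∈ S, ∀ w ∈ qq K1 ⊓ qq K2, v * w * v⁻¹ * w⁻¹ ∈ zz K1 ⊓ nor K2 := by
    intro v hv w hw
    have hz := C.comm_mem_zz h1 hv.1 hw.1
    refine ⟨hz, C.cen_le_nor h2 he0 he1 (mem_cen.2 ?_)⟩
    have hn := Subgroup.inv_mem _ (hv.2 e0 ⟨he0, he2⟩)
    have c1 := conj_eq (zc he0 hw.2)
    have c2 := conj_eq (hNW _ hn w hw)
    have c3 := conj_eq (zc hz (hN0 hn)).symm
    set n := (v * e0 * v⁻¹ * e0⁻¹)⁻¹ with hn'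
    have e1 : e0 * (v * w * v⁻¹ * w⁻¹) * e0⁻¹ =
        n * (v * (e0 * w * e0⁻¹) * v⁻¹ * w⁻¹) * n⁻¹ * (n * w * n⁻¹) * (e0 * w * e0⁻¹)⁻¹ := by
      rw [hn']; group
    rw [c1, c2, c3, mul_inv_cancel_right, mul_inv_eq_iff_eq_mul] at e1
    exact e1.symm
  have hSN' : ∀ v ∈ S, ∀ a ∈ qq K1 ⊓ qq K2 ⊔ (zz K1 ⊓ nor K2),
      v * a * v⁻¹ ∈ qq K1 ⊓ qq K2 ⊔ (zz K1 ⊓ nor K2) := fun v hv =>
    conj_sup (fun w hw => by
        have e1 : v * w * v⁻¹ = v * w * v⁻¹ * w⁻¹ * w := by group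
        rw [e1]
        exact Subgroup.mul_mem _ (Subgroup.mem_sup_right (hSW v hv w hw)) (Subgroup.mem_sup_left hw))
      fun a ha => by
        rw [conj_eq (zc ha.1 hv.1).symm]
        exact Subgroup.mem_sup_right ha
  have hEN' : zz K2 ⊓ nor K1 ≤ nor (qq K1 ⊓ qq K2 ⊔ (zz K1 ⊓ nor K2)) := fun e he =>
    nor_of (conj_sup (fun w hw => by
        rw [conj_eq (zc he.1 hw.2)]
        exact Subgroup.mem_sup_left hw)
      fun a ha => by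
        rw [conj_eq (hEE a ha e he)]
        exact Subgroup.mem_sup_right ha)
  have hyW : y ∈ nor (qq K1 ⊓ qq K2) :=
    nor_inf_le_nor_inf _ _ ⟨nor_le_nor_qq K1 y1, nor_le_nor_qq K2 y2⟩
  have hyN : zpowers y ≤ nor (qq K1 ⊓ qq K2 ⊔ (zz K1 ⊓ nor K2)) :=
    (Subgroup.zpowers_le).2 (nor_of (conj_sup
      (fun w hw => Subgroup.mem_sup_left ((mem_nor.1 hyW _).1 hw))
      fun a ha => by
        rw [conj_eq ((mem_zz.1 ha.1).2 y hy1).symm]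
        exact Subgroup.mem_sup_right ha))
  have hN0y : cm (qq K1 ⊓ qq K2 ⊔ zz K1) y ≤ qq K1 ⊓ qq K2 := cm_le_of hyW fun n hn => by
    obtain ⟨a, ha, b, hb, rfl⟩ := (mem_sup_nor hWZ).1 hn
    have e1 : a * b * y * (a * b)⁻¹ * y⁻¹ = a * ((b * y * b⁻¹) * a⁻¹ * y⁻¹) := by group
    rw [e1, conj_eq ((mem_zz.1 hb).2 y hy1)]
    exact Subgroup.mul_mem _ ha ((mem_nor.1 hyW _).1 (Subgroup.inv_mem _ ha))
  have hSE : ⁅S, zz K2 ⊓ nor K1⁆ ≤ qq K1 ⊓ qq K2 ⊔ zz K1 :=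
    Subgroup.commutator_le.2 fun v hv e he => hv.2 e he
  have hEy : cm (zz K2 ⊓ nor K1) y = ⊥ := cm_eq_bot_iff.2 hyE
  have h3 := three_mod (A := S) (B := zz K2 ⊓ nor K1) (C := zpowers y)
    (N := qq K1 ⊓ qq K2 ⊔ (zz K1 ⊓ nor K2)) (fun v hv => nor_of (hSN' v hv)) hEN' hyN
    (((Subgroup.commutator_mono hSE le_rfl).trans hN0y).trans le_sup_left)
    (by rw [show ⁅zz K2 ⊓ nor K1, zpowers y⁆ = ⊥ from hEy, Subgroup.commutator_bot_left]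
        exact bot_le)
  rw [Subgroup.commutator_comm (zpowers y) S] at h3
  have hNA : qq K1 ⊓ qq K2 ⊔ (zz K1 ⊓ nor K2) ≤
      (qq K1 ⊓ qq K2) ⊔ ((zz K1 ⊓ nor K2) ⊔ (zz K2 ⊓ nor K1)) := sup_le_sup_left le_sup_left _
  refine ⟨cm S y, hUS.trans hSQ, fun hU => hv1 ?_, cop_cm_cm C.pp C.qp C.pq hSp hyp hyS,
    mem_nor_cm S y, ?_⟩
  · obtain ⟨a, ha, c, hc, hcy, rfl⟩ := cop_decomp C.pp C.qp C.pq hSp hyp hyS (r := v0) ⟨hv0, hv2⟩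
    exact Subgroup.mul_mem _ (Subgroup.mem_sup_left ⟨hSQ (hUS ha), hU ha⟩)
      (Subgroup.mem_sup_right ((C.zz_iff h1 hy hy1).2 ⟨hSQ hc, hcy⟩))
  · intro u hu
    refine nor_of (conj_sup (fun w hw => hNA (hSN' u (hUS hu) w (Subgroup.mem_sup_left hw)))
      (conj_sup (fun a ha => hNA (hSN' u (hUS hu) a (Subgroup.mem_sup_right ha))) fun e he => ?_))
    have e1 : u * e * u⁻¹ = u * e * u⁻¹ * e⁻¹ * e := by group
    rw [e1]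
    exact Subgroup.mul_mem _ (hNA (h3 (Subgroup.commutator_mem_commutator hu he)))
      (Subgroup.mem_sup_right (Subgroup.mem_sup_right he))

end Cfsg.Agent.AF
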