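import Cfsg.Agent.AF.LA1

set_option autoImplicit false
set_option linter.unusedSectionVars false

namespace Cfsg.Agent.AF

open Cfsg.Agent.DT (cm nor cen cj)
open Subgroup (zpowers)

variable {G : Type*} [Group G] [Finite G] {p q : ℕ} {X : Set G}

namespace LAcAux

open Cfsg.Agent.DT

theorem cm_mono {A B : Subgroup G} (h : A ≤ B) (y : G) : cm A y ≤ cm B y :=
  Subgroup.commutator_mono h le_rfl

theorem exists_v (C : Cx p q X) {S : Subgroup G} {y : G} (hy : y ∈ X) (hS : IsPGroup q S) (hyS : y ∈ nor S)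
    {w : G} (hw : w ∈ cm S y) (hw1 : w ≠ 1) (hc : Commute w y) :
    ∃ v ∈ cm S y, v ≠ 1 ∧ Commute v y ∧ S ≤ cen v := by
  have hn : S ≤ nor (cm S y ⊓ cen y) := by
    intro s hs
    obtain ⟨a, ha, c, hcS, hcy, rfl⟩ := cop_decomp C.pp C.qp C.pq hS (C.toHy.pow_eq hy) hyS hs
    refine Subgroup.mem_normalizer_fintype fun z hz => ?_
    have h1 : c * z * c⁻¹ ∈ cm S y := (mem_nor.1 (le_nor_cm S y hcS) z).1 hz.1
    have h2 : Commute (c * z * c⁻¹) y := (hcy.mul_left (mem_cen.1 hz.2)).mul_left hcy.inv_left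
    have h3 := C.h2 y hy S hS hyS _ h1 h2 a ha
    have h4 : a * c * z * (a * c)⁻¹ = c * z * c⁻¹ := by
      calc a * c * z * (a * c)⁻¹ = a * (c * z * c⁻¹) * a⁻¹ := by group
        _ = c * z * c⁻¹ * a * a⁻¹ := by rw [h3.eq]
        _ = c * z * c⁻¹ := by group
    rw [h4]
    exact ⟨h1, mem_cen.2 h2⟩
  have hb : ∀ H : Subgroup G, H ≤ nor ⊥ := fun H g _ =>
    Subgroup.mem_normalizer_fintype fun a ha => by
      have : a = 1 := Subgroup.mem_bot.1 ha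
      rw [this, mul_one, mul_inv_cancel]
      exact (⊥ : Subgroup G).one_mem
  obtain ⟨v, hv, hv1, h⟩ := fix_coset C.qp (E := S) (Q := cm S y ⊓ cen y) (N := ⊥) hS
    (hS.to_le (inf_le_left.trans (cm_le hyS))) bot_le
    (fun e => hw1 (Subgroup.mem_bot.1 (e ▸ (⟨hw, mem_cen.2 hc⟩ : w ∈ cm S y ⊓ cen y)))) (hb _) hn (hb _)
  refine ⟨v, hv.1, fun e => hv1 (Subgroup.mem_bot.2 e), mem_cen.1 hv.2, fun e he => mem_cen.2 ?_⟩
  have := Subgroup.mem_bot.1 (h e he)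
  rw [mul_inv_eq_one, mul_inv_eq_iff_eq_mul] at this
  exact this.symm

theorem step (C : Cx p q X) {K K2 : Subgroup G} (h1 : Blk X K) (h2 : Blk X K2) (hne : K ≠ K2) {y : G}
    (hy : y ∈ X) (hy1 : y ∈ K) (hy2 : y ∈ K2) {z : G} (hz : z ∈ zz K) (hz1 : z ≠ 1) (hz2 : z ∈ nor K2) :
    ∃ R, Cc q K y R ∧ qq K ⊓ qq K2 < qq K ⊓ cm R y := by
  have hE := C.la_sym h1 h2 hz hz1 hz2
  obtain ⟨U1, hU1, hU1n, hU1c, hyU1, hU1L⟩ := C.la1 h1 h2 hne hy hy1 hy2 hE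
  obtain ⟨U2, hU2, hU2n, hU2c, hyU2, hU2L⟩ := C.la1 h2 h1 hne.symm hy hy2 hy1 ⟨z, hz, hz1, hz2⟩
  rw [inf_comm (qq K2) (qq K), sup_comm (zz K2 ⊓ nor K)] at hU2L
  set A : Subgroup G := (qq K ⊓ qq K2) ⊔ ((zz K ⊓ nor K2) ⊔ (zz K2 ⊓ nor K)) with hA
  have hzA : z ∈ A :=
    (le_sup_right : _ ≤ A) ((le_sup_left : _ ≤ (zz K ⊓ nor K2) ⊔ (zz K2 ⊓ nor K)) ⟨hz, hz2⟩)
  have hAq : IsPGroup q A := by
    have hq : IsPGroup q ((zz K2 ⊓ nor K) ⊔ qq K : Subgroup G) :=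
      sup_pgroup ((C.blk_pgroup h2).to_le (inf_le_left.trans inf_le_left)) (C.blk_pgroup h1)
        (inf_le_right.trans (nor_le_nor_qq K))
    refine hq.to_le (sup_le (inf_le_left.trans le_sup_right) (sup_le ?_ le_sup_left))
    exact (inf_le_left.trans inf_le_left).trans le_sup_right
  have hA1 : A ≠ ⊥ := fun e => hz1 (Subgroup.mem_bot.1 (e ▸ hzA))
  have hn1 : y ∈ nor K := Subgroup.le_normalizer hy1
  have hn2 : y ∈ nor K2 := Subgroup.le_normalizer hy2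
  have hyW : y ∈ nor (qq K ⊓ qq K2) := nor_inf_le_nor_inf _ _ ⟨nor_le_nor_qq K hn1, nor_le_nor_qq K2 hn2⟩
  have hyA : y ∈ nor A :=
    nor_inf_le_nor_sup _ _ ⟨hyW, nor_inf_le_nor_sup _ _
      ⟨nor_inf_le_nor_inf _ _ ⟨nor_le_nor_zz K hn1, nor_le_nor_nor K2 hn2⟩,
        nor_inf_le_nor_inf _ _ ⟨nor_le_nor_zz K2 hn2, nor_le_nor_nor K hn1⟩⟩⟩
  have hL : nor A ≠ ⊤ := C.nor_ne_top C.qp hAq hA1
  have hθ : IsPGroup q (th X (nor A)) := C.th_pgroup hL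
  have hθL : th X (nor A) ≤ nor A := (qq_le _).trans (sp_le _ _)
  have hR : IsPGroup q (th X (nor A) ⊔ A : Subgroup G) := sup_pgroup hθ hAq hθL
  have hyR : y ∈ nor (th X (nor A) ⊔ A) := nor_inf_le_nor_sup _ _ ⟨C.toHy.le_nor_th _ hyA, hyA⟩
  have hU : ∀ U : Subgroup G, IsPGroup q U → y ∈ nor U → cm U y = U → U ≤ nor A →
      U ≤ cm (th X (nor A) ⊔ A) y := by
    intro U hq hn hc hl
    have : U ≤ th X (nor A) ⊔ A := (hc.ge.trans (C.cm_le_th hL hy hyA hl hq hn)).trans le_sup_left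
    exact hc.ge.trans (cm_mono this y)
  have hW : qq K ⊓ qq K2 ≤ cm (th X (nor A) ⊔ A) y :=
    (C.inf_cm h1 h2 hne hy hy1 hy2).ge.trans
      (cm_mono (le_sup_left.trans le_sup_right : qq K ⊓ qq K2 ≤ th X (nor A) ⊔ A) y)
  refine ⟨th X (nor A) ⊔ A, ⟨hR, hyR, ⟨z, hz, hz1, (le_sup_right : A ≤ th X (nor A) ⊔ A) hzA⟩, fun e =>
    hU2n ((hU U2 ((C.blk_pgroup h2).to_le hU2) hyU2 hU2c hU2L).trans e)⟩,
    lt_of_le_of_ne (le_inf inf_le_left hW) fun e => hU1n ?_⟩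
  have : U1 ≤ qq K ⊓ cm (th X (nor A) ⊔ A) y :=
    le_inf hU1 (hU U1 ((C.blk_pgroup h1).to_le hU1) hyU1 hU1c hU1L)
  rw [← e] at this
  exact this.trans inf_le_right

end LAcAux

theorem Cx.lac (C : Cx p q X) {K S : Subgroup G} (h : Blk X K) {y : G} (hy : y ∈ X) (hyK : y ∈ K)
    (hS : Cc q K y S) (hSm : ∀ S' : Subgroup G, IsPGroup q S' → y ∈ nor S' → S ≤ S' → S' = S)
    (hmax : ∀ R, Cc q K y R →
      Nat.card (qq K ⊓ cm R y : Subgroup G) ≤ Nat.card (qq K ⊓ cm S y : Subgroup G))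
    {w : G} (hw : w ∈ cm S y) (hw1 : w ≠ 1) (hc : Commute w y) : False := by
  obtain ⟨hq, hyS, ⟨z, hz, hz1, hzS⟩, hn⟩ := hS
  obtain ⟨v, hv, hv1, hvy, hSv⟩ := LAcAux.exists_v C hy hq hyS hw hw1 hc
  have hL : cen v ≠ ⊤ := C.cen_ne_top hv1
  have hyL : y ∈ cen v := DT.mem_cen.2 hvy.symm
  have h1 : S ⊔ th X (cen v) = S :=
    hSm _ (DT.sup_pgroup hq (C.th_pgroup hL) (hSv.trans (C.toHy.le_nor_th _)))
      (DT.nor_inf_le_nor_sup _ _ ⟨hyS, C.toHy.le_nor_th _ hyL⟩) le_sup_left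
  have h2 : th X (cen v) = cm S y :=
    le_antisymm ((C.th_cm hL hy hyL).ge.trans (LAcAux.cm_mono (le_sup_right.trans h1.le) y))
      (C.cm_le_th hL hy hyL hSv hq hyS)
  have hB := (C.blk_of hL hy hyL (h2.ge hv) hv1 hvy).1
  have hne : K ≠ sp X (cen v) := fun e => hn (by rw [← h2, e])
  obtain ⟨R, hR, hlt⟩ := LAcAux.step C h hB hne hy hyK (mem_sp hy hyL) hz hz1
    (C.toHy.nor_le_nor_sp _ (Subgroup.le_normalizer (hSv hzS)))
  have h3 := hmax R hR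
  rw [← h2] at h3
  exact hlt.ne (Subgroup.eq_of_le_of_card_ge hlt.le h3)

end Cfsg.Agent.AF
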