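import Cfsg.Agent.AF.Defs
import Cfsg.Agent.S0205

set_option autoImplicit false
set_option linter.unusedSectionVars false

namespace Cfsg.Agent.AF

open Cfsg.Agent.DT (cm nor cen cj)
open Subgroup (zpowers)

variable {G : Type*} [Group G] [Finite G] {p q : ℕ} {X : Set G}

namespace P1Aux

theorem pair_eq {n : ℕ} (h : Pr p n X) {a b c : G} (ha : a ∈ X) (hb : b ∈ X) (hc : c ∈ X)
    (hb' : b ∉ zpowers a) (hm : c ∈ zpowers a ⊔ zpowers b) (hne : c ∉ zpowers a) :
    zpowers a ⊔ zpowers c = zpowers a ⊔ zpowers b := by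
  refine Subgroup.eq_of_le_of_card_ge (sup_le le_sup_left ((Subgroup.zpowers_le).2 hm)) ?_
  rw [h.card a ha b hb hb', h.card a ha c hc hne]

theorem mem_nor_zp {a g : G} (h : g * a * g⁻¹ ∈ zpowers a) : g ∈ nor (zpowers a) :=
  Subgroup.mem_normalizer_fintype fun x hx => by
    obtain ⟨k, rfl⟩ := Subgroup.mem_zpowers_iff.1 hx
    have := Subgroup.zpow_mem _ h k
    rwa [conj_zpow] at this

theorem qq_ne {F : Subgroup G} (hodd : Odd (Nat.card F)) (hF : F ≠ ⊥) : qq F ≠ F := by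
  intro h
  have : Group.IsSolvable F := S0205.result hodd
  have : Nontrivial F := (Subgroup.nontrivial_iff_ne_bot F).2 hF
  have h1 := Group.IsSolvable.commutator_lt_top_of_nontrivial (G := F)
  apply h1.ne
  apply Subgroup.map_injective F.subtype_injective
  rw [Subgroup.map_subtype_commutator, ← MonoidHom.range_eq_map, Subgroup.range_subtype]
  exact h

theorem inf_eq_bot {Q : Subgroup G} {a : G} (hp : p.Prime) (ho : orderOf a = p) (ha : a ∉ Q) :
    Q ⊓ zpowers a = ⊥ := by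
  have hd : Nat.card (Q ⊓ zpowers a : Subgroup G) ∣ p := by
    rw [← ho, ← Nat.card_zpowers]
    exact Subgroup.card_dvd_of_le inf_le_right
  rcases (Nat.dvd_prime hp).1 hd with h1 | h1
  · exact Subgroup.card_eq_one.1 h1
  · exfalso
    have he : Q ⊓ zpowers a = zpowers a :=
      Subgroup.eq_of_le_of_card_ge inf_le_right (by rw [h1, Nat.card_zpowers, ho])
    exact ha (he.ge (Subgroup.mem_zpowers a)).1

theorem card_sup {A B : Subgroup G} (h : A ≤ nor B) (hd : B ⊓ A = ⊥) :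
    Nat.card (A ⊔ B : Subgroup G) = Nat.card B * Nat.card A := by
  rw [mul_comm, ← Nat.card_prod]
  symm
  refine Nat.card_eq_of_bijective (fun x : A × B => (⟨x.1.1 * x.2.1,
    Subgroup.mul_mem_sup x.1.2 x.2.2⟩ : (A ⊔ B : Subgroup G))) ⟨?_, ?_⟩
  · rintro ⟨⟨s, hs⟩, ⟨u, hu⟩⟩ ⟨⟨s', hs'⟩, ⟨u', hu'⟩⟩ he
    have he' : s * u = s' * u' := congrArg Subtype.val he
    have h1 : s'⁻¹ * s ∈ B ⊓ A := by
      refine ⟨?_, A.mul_mem (A.inv_mem hs') hs⟩
      have : s'⁻¹ * s = u' * u⁻¹ := by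
        rw [inv_mul_eq_iff_eq_mul, ← mul_assoc, ← he', mul_inv_cancel_right]
      rw [SetLike.mem_coe, this]
      exact B.mul_mem hu' (B.inv_mem hu)
    rw [hd, Subgroup.mem_bot, inv_mul_eq_one] at h1
    subst h1
    have := mul_left_cancel he'
    subst this
    rfl
  · rintro ⟨g, hg⟩
    obtain ⟨s, hs, u, hu, rfl⟩ := (DT.mem_sup_nor h).1 hg
    exact ⟨(⟨s, hs⟩, ⟨u, hu⟩), rfl⟩

end P1Aux

theorem Pr.exch {n : ℕ} (h : Pr p n X) {a b c : G} (ha : a ∈ X) (hb : b ∈ X) (hc : c ∈ X)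
    (hm : c ∈ zpowers a ⊔ zpowers b) (hne : c ∉ zpowers a) : b ∈ zpowers a ⊔ zpowers c := by
  by_cases hb' : b ∈ zpowers a
  · exact Subgroup.mem_sup_left hb'
  · rw [P1Aux.pair_eq h ha hb hc hb' hm hne]
    exact Subgroup.mem_sup_right (Subgroup.mem_zpowers b)

/-- a proper subgroup of the pair group containing `a` normalizes `⟨a⟩`. -/
theorem Pr.le_nor {n : ℕ} (h : Pr p n X) {a b : G} (ha : a ∈ X) (hb : b ∈ X) (hne : b ∉ zpowers a)
    {H : Subgroup G} (hH : H ≤ zpowers a ⊔ zpowers b) (hH' : H ≠ zpowers a ⊔ zpowers b)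
    (haH : a ∈ H) : H ≤ nor (zpowers a) := by
  intro g hg
  by_cases hc : g * a * g⁻¹ ∈ zpowers a
  · exact P1Aux.mem_nor_zp hc
  · exfalso
    have hcH : g * a * g⁻¹ ∈ H := mul_mem (mul_mem hg haH) (inv_mem hg)
    apply hH'
    refine le_antisymm hH ?_
    rw [← P1Aux.pair_eq h ha hb (h.conj a ha g) hne (hH hcH) hc]
    exact sup_le ((Subgroup.zpowers_le).2 haH) ((Subgroup.zpowers_le).2 hcH)

theorem Pr.not_le_nor {n : ℕ} (h : Pr p n X) {a b : G} (ha : a ∈ X) (hb : b ∈ X)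
    (hne : b ∉ zpowers a) : b ∉ nor (zpowers a) := by
  intro hn
  have := Fact.mk h.pp
  have h1 : b * a * b⁻¹ ∈ zpowers a := (DT.mem_nor.1 hn a).1 (Subgroup.mem_zpowers a)
  obtain ⟨k, hk⟩ := (Submonoid.mem_powers_iff _ _).1 (mem_powers_iff_mem_zpowers.2 h1)
  have h2 : ∀ j : ℕ, b ^ j * a * (b ^ j)⁻¹ = a ^ (k ^ j) := by
    intro j
    induction j with
    | zero => simp
    | succ j ih =>
      rw [show b ^ (j + 1) * a * (b ^ (j + 1))⁻¹ = b * (b ^ j * a * (b ^ j)⁻¹) * b⁻¹ by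
        rw [pow_succ']; group, ih, ← conj_pow, ← hk, ← pow_mul, ← pow_succ']
  have h3 := h2 p
  have hbp : b ^ p = 1 := by rw [← h.ord b hb]; exact pow_orderOf_eq_one b
  rw [hbp, one_mul, inv_one, mul_one] at h3
  have h4 : a ^ (k ^ p) = a ^ k := by
    rw [pow_eq_pow_iff_modEq, h.ord a ha, ← ZMod.natCast_eq_natCast_iff, Nat.cast_pow, ZMod.pow_card]
  rw [h4, hk, eq_mul_inv_iff_mul_eq] at h3
  exact h.ncomm a ha b hb hne h3

theorem Pr.struct0 {n : ℕ} (h : Pr p n X) {a b : G} (ha : a ∈ X) (hb : b ∈ X) (hne : b ∉ zpowers a) :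
    qq (zpowers a ⊔ zpowers b) ⊔ zpowers a = zpowers a ⊔ zpowers b ∧
    a ∉ qq (zpowers a ⊔ zpowers b) ∧
    cm (qq (zpowers a ⊔ zpowers b)) a = qq (zpowers a ⊔ zpowers b) ∧
    qq (zpowers a ⊔ zpowers b) ≠ ⊥ ∧
    Nat.card (qq (zpowers a ⊔ zpowers b)) * p = n := by
  have hnb := h.not_le_nor ha hb hne
  have hcard := h.card a ha b hb hne
  have key : ∀ c ∈ X, c ∈ zpowers a ⊔ zpowers b → c ∉ zpowers a →
      zpowers a ⊔ zpowers c = zpowers a ⊔ zpowers b := fun c hc hm hc' =>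
    P1Aux.pair_eq h ha hb hc hne hm hc'
  have haF : a ∈ zpowers a ⊔ zpowers b := Subgroup.mem_sup_left (Subgroup.mem_zpowers a)
  have hbF : b ∈ zpowers a ⊔ zpowers b := Subgroup.mem_sup_right (Subgroup.mem_zpowers b)
  generalize zpowers a ⊔ zpowers b = F at *
  have hFb : F ≠ ⊥ := by
    intro hF
    rw [hF, Subgroup.mem_bot] at hbF
    exact hne (hbF ▸ one_mem _)
  have hQF : qq F ≠ F := P1Aux.qq_ne (hcard ▸ h.odd) hFb
  have hFn : F ≤ nor (qq F) := Subgroup.normalizer_commutator_ge_left F F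
  have haz : zpowers a ≤ F := (Subgroup.zpowers_le).2 haF
  have e1 : qq F ⊔ zpowers a = F := by
    refine le_antisymm (sup_le (qq_le F) haz) ?_
    have hc : b * a * b⁻¹ ∉ zpowers a := fun hc => hnb (P1Aux.mem_nor_zp hc)
    have hk := key _ (h.conj a ha b) (mul_mem (mul_mem hbF haF) (inv_mem hbF)) hc
    refine hk.ge.trans (sup_le le_sup_right ((Subgroup.zpowers_le).2 ?_))
    have h1 : b * a * b⁻¹ * a⁻¹ ∈ qq F := Subgroup.commutator_mem_commutator hbF haF
    have := Subgroup.mul_mem_sup h1 (Subgroup.mem_zpowers a)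
    rwa [inv_mul_cancel_right] at this
  have e2 : a ∉ qq F := fun hq =>
    hQF (le_antisymm (qq_le F) (e1.ge.trans (sup_le le_rfl ((Subgroup.zpowers_le).2 hq))))
  have e3 : qq F ⊓ zpowers a = ⊥ := P1Aux.inf_eq_bot h.pp (h.ord a ha) e2
  have e4 : ∃ u ∈ qq F, u ∉ nor (zpowers a) := by
    by_contra hcon
    push Not at hcon
    exact hnb ((e1.ge.trans (sup_le hcon Subgroup.le_normalizer)) hbF)
  obtain ⟨u, hu, hun⟩ := e4
  have hcl : cm (qq F) a ≤ qq F := DT.cm_le (hFn haF)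
  refine ⟨e1, e2, le_antisymm hcl ?_, ?_, ?_⟩
  · intro t ht
    have hc : u * a * u⁻¹ ∉ zpowers a := fun hc => hun (P1Aux.mem_nor_zp hc)
    have huF := qq_le F hu
    have hk := key _ (h.conj a ha u) (mul_mem (mul_mem huF haF) (inv_mem huF)) hc
    have hle : F ≤ zpowers a ⊔ cm (qq F) a := by
      refine hk.ge.trans (sup_le le_sup_left ((Subgroup.zpowers_le).2 ?_))
      have := mul_mem (Subgroup.mem_sup_right (S := zpowers a) (DT.comm_mem_cm a hu).1)
        (Subgroup.mem_sup_left (T := cm (qq F) a) (Subgroup.mem_zpowers a))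
      rwa [inv_mul_cancel_right] at this
    obtain ⟨s, hs, v, hv, rfl⟩ := (DT.mem_sup_nor
      ((Subgroup.zpowers_le).2 (DT.mem_nor_cm (qq F) a))).1 (hle (qq_le F ht))
    have hs1 : s ∈ qq F ⊓ zpowers a := by
      refine ⟨?_, hs⟩
      have := mul_mem ht (inv_mem (hcl hv))
      rwa [mul_inv_cancel_right] at this
    rw [e3, Subgroup.mem_bot] at hs1
    rw [hs1, one_mul]
    exact hv
  · intro hq
    rw [hq, Subgroup.mem_bot] at hu
    exact hun (hu ▸ one_mem _)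
  · have := P1Aux.card_sup (haz.trans hFn) e3
    rw [sup_comm, e1, hcard, Nat.card_zpowers, h.ord a ha] at this
    exact this.symm

end Cfsg.Agent.AF
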