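import Cfsg.Agent.AF.P1

set_option autoImplicit false
set_option linter.unusedSectionVars false

namespace Cfsg.Agent.AF

open Cfsg.Agent.DT (cm nor cen cj)
open Subgroup (zpowers)

variable {G : Type*} [Group G] [Finite G] {p q : ℕ} {X : Set G}

namespace P2Aux

open Cfsg.Agent.DT Subgroup

theorem zp_one (hp : p.Prime) {a c : G} (ho : orderOf a = p) {Q : Subgroup G} (h : a ∉ Q) (hc : c ∈ zpowers a)
    (hQ : c ∈ Q) : c = 1 := by
  have := Fact.mk (show (Nat.card (zpowers a)).Prime by rwa [Nat.card_zpowers, ho])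
  rcases (Q.subgroupOf (zpowers a)).eq_bot_or_eq_top_of_prime_card with e | e
  · have : (⟨c, hc⟩ : zpowers a) ∈ Q.subgroupOf (zpowers a) := hQ
    rw [e, mem_bot] at this
    exact congrArg Subtype.val this
  · exact absurd (subgroupOf_eq_top.1 e (mem_zpowers a)) h

theorem nor_zp {a f : G} (h : f * a * f⁻¹ ∈ zpowers a) : f ∈ nor (zpowers a) :=
  mem_normalizer_fintype fun c hc => by
    obtain ⟨k, rfl⟩ := mem_zpowers_iff.1 hc
    rw [← conj_zpow]
    exact zpow_mem h k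

theorem le_nor_qq (F : Subgroup G) : F ≤ nor (qq F) := normalizer_commutator_ge_left _ _

theorem small {n : ℕ} (h : Pr p n X) {a b : G} (ha : a ∈ X) (hb : b ∈ X) (hne : b ∉ zpowers a) {H : Subgroup G}
    (le : H ≤ qq (zpowers a ⊔ zpowers b)) (ne : H ≠ qq (zpowers a ⊔ zpowers b)) (hn : a ∈ nor H) :
    H ≤ cen a := by
  obtain ⟨-, s2, -⟩ := h.struct0 ha hb hne
  have k := h.le_nor ha hb hne (H := zpowers a ⊔ H) (sup_le le_sup_left (le.trans (qq_le _))) (fun e => ne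
    (le_antisymm le fun u hu => by
      obtain ⟨c, hc, v, hv, rfl⟩ := (mem_sup_nor (zpowers_le.2 hn)).1 (e ▸ qq_le _ hu : u ∈ zpowers a ⊔ H)
      rwa [zp_one h.pp (h.ord a ha) s2 hc ((mul_mem_cancel_right (le hv)).1 hu), one_mul]))
    (mem_sup_left (mem_zpowers a))
  intro u hu
  refine mem_cen.2 (commutatorElement_eq_one_iff_commute.1 (zp_one h.pp (h.ord a ha) s2 ?_
    (le (cm_le hn (comm_mem_cm a hu).1))))
  exact mul_mem ((mem_nor.1 (k (mem_sup_right hu)) a).1 (mem_zpowers a)) (inv_mem (mem_zpowers a))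

end P2Aux

open P2Aux Cfsg.Agent.DT Subgroup in
theorem Pr.struct {n : ℕ} (h : Pr p n X) {a b : G} (ha : a ∈ X) (hb : b ∈ X) (hne : b ∉ zpowers a) :
    ∃ r : ℕ, r.Prime ∧ r ≠ p ∧ IsPGroup r (qq (zpowers a ⊔ zpowers b)) := by
  obtain ⟨s1, s2, s3, s4, s5⟩ := h.struct0 ha hb hne
  have sm := @small _ _ _ _ _ _ h _ _ ha hb hne
  have aF : a ∈ zpowers a ⊔ zpowers b := mem_sup_left (mem_zpowers a)
  have ex := fun c hc => h.exch ha hb (c := c) hc
  have nb := h.not_le_nor ha hb hne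
  have bF : b ∈ zpowers a ⊔ zpowers b := mem_sup_right (mem_zpowers b)
  have FF : ∀ K : Subgroup G, a ∈ K → b ∈ K → zpowers a ⊔ zpowers b ≤ K := fun K h1 h2 =>
    sup_le (zpowers_le.2 h1) (zpowers_le.2 h2)
  generalize zpowers a ⊔ zpowers b = F at *
  have QF := qq_le F
  have aQ : a ∈ nor (qq F) := le_nor_qq F aF
  generalize qq F = Q at *
  have sol : Group.IsSolvable Q := S0205.result (Odd.of_dvd_nat h.odd ⟨p, s5.symm⟩)
  have : Nontrivial Q := (nontrivial_iff_ne_bot Q).2 s4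
  have c1 : qq Q ≤ cen a := sm (qq_le Q) (fun e => (Group.IsSolvable.commutator_lt_top_of_nontrivial Q).ne (by
      apply map_injective Q.subtype_injective
      rw [map_subtype_commutator, ← MonoidHom.range_eq_map, range_subtype]
      exact e))
    (cj_eq_self_iff.1 (by rw [cj, map_commutator]; exact congrArg₂ _ (cj_eq_self_iff.2 aQ) (cj_eq_self_iff.2 aQ)))
  obtain ⟨u, hu, hu'⟩ : ∃ u ∈ Q, ¬ Commute u a := by
    by_contra! k
    exact s4 (s3 ▸ cm_eq_bot_iff.2 k)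
  have c2 : ∀ c ∈ Q, Commute c a → ∀ f ∈ F, Commute f c := fun c hc e f hf => by
    have k := ex _ (h.conj a ha u) (mul_mem (mul_mem (QF hu) aF) (inv_mem (QF hu))) fun k => hu'
      (commutatorElement_eq_one_iff_commute.1 (zp_one h.pp (h.ord a ha) s2 (mul_mem k (inv_mem (mem_zpowers a)))
        (cm_le aQ (comm_mem_cm a hu).1)))
    have e2 : Commute (u⁻¹ * c * u) a := by
      have := (mem_cen.1 (c1 (commutator_mem_commutator (inv_mem hu) hc))).mul_left e
      rwa [commutatorElement_def, inv_mul_cancel_right, inv_inv] at this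
    refine mem_cen.1 (FF _ (mem_cen.2 e.symm) ((sup_le (zpowers_le.2 (mem_cen.2 e.symm)) (zpowers_le.2
      (mem_cen.2 ?_)) : _ ≤ cen c) k) hf)
    calc u * a * u⁻¹ * c = u * (a * (u⁻¹ * c * u)) * u⁻¹ := by group
      _ = c * (u * a * u⁻¹) := by rw [← e2.eq]; group
  have nil : Group.IsNilpotent Q := Subgroup.isNilpotent_of_ker_le_center (Abelianization.of (G := Q)) fun c hc => by
    rw [Abelianization.ker_of] at hc
    have : (c : G) ∈ qq Q := (map_subtype_commutator Q).le (mem_map_of_mem Q.subtype hc)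
    exact mem_center_iff.2 fun g => Subtype.ext (c2 c c.2 (mem_cen.1 (c1 this)) g (QF g.2))
  obtain ⟨r, hr, hd⟩ := Nat.exists_prime_and_dvd (n := ((cen a).subgroupOf Q).index) fun e =>
    hu' (mem_cen.1 (subgroupOf_eq_top.1 (index_eq_one.1 e) hu))
  have := Fact.mk hr
  obtain ⟨S⟩ : Nonempty (Sylow r Q) := inferInstance
  have uq := S.unique_of_normal inferInstance
  have hS : IsPGroup r Q := by
    by_contra k
    have := sm (H := (S : Subgroup Q).map Q.subtype) (map_subtype_le _) (fun e => k (e ▸ S.2.map _))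
      (mem_normalizer_fintype fun c ⟨d, hd, e⟩ => by
        subst e
        obtain ⟨T, hT⟩ := (S.2.map (Q.normalizerMonoidHom ⟨a, aQ⟩).toMonoidHom).exists_le_sylow
        rw [Subsingleton.elim T S] at hT
        exact ⟨_, hT (mem_map_of_mem _ hd), rfl⟩)
    exact S.not_dvd_index (hd.trans (index_dvd_of_le (map_le_iff_le_comap.1 this)))
  refine ⟨r, hr, ?_, hS⟩
  rintro rfl
  have hF : IsPGroup r F := by
    rw [← s1, sup_comm]
    exact sup_pgroup (IsPGroup.of_card (n := 1) (by rw [Nat.card_zpowers, h.ord a ha, pow_one])) hS (zpowers_le.2 aQ)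
  obtain ⟨f, f1, f2, f3⟩ := nor_grow hr hF (inf_le_left (b := nor (zpowers a))) fun e => nb (e.ge bF).2
  have k := (mem_nor.1 f2 a).1 ⟨aF, le_normalizer (mem_zpowers a)⟩
  exact f3 ⟨f1, nor_zp (by_contra fun e => h.not_le_nor ha (h.conj a ha f) e k.2)⟩

theorem Pr.exists_q {n : ℕ} (h : Pr p n X) (hex : ∃ a ∈ X, ∃ b ∈ X, b ∉ zpowers a) :
    ∃ r : ℕ, r.Prime ∧ r ≠ p ∧ r ≠ 2 ∧ ∀ a ∈ X, ∀ b ∈ X, b ∉ zpowers a →
      IsPGroup r (qq (zpowers a ⊔ zpowers b)) := by
  obtain ⟨a, ha, b, hb, hne⟩ := hex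
  obtain ⟨r, hr, h1, h2⟩ := h.struct ha hb hne
  obtain ⟨-, -, -, s4, s5⟩ := h.struct0 ha hb hne
  have := Fact.mk hr
  obtain ⟨k, hk⟩ := h2.exists_card_eq
  refine ⟨r, hr, h1, ?_, fun a' ha' b' hb' hne' => IsPGroup.of_card (n := k) ?_⟩
  · rintro rfl
    have k0 : k ≠ 0 := by
      rintro rfl
      exact s4 (Subgroup.card_eq_one.1 hk)
    exact (Nat.not_even_iff_odd.2 h.odd) (even_iff_two_dvd.2 (s5 ▸ (hk ▸ dvd_pow_self 2 k0).mul_right p))
  · rw [← hk]
    exact Nat.eq_of_mul_eq_mul_right h.pp.pos ((h.struct0 ha' hb' hne').2.2.2.2.trans s5.symm)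

end Cfsg.Agent.AF
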