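import Cfsg.Agent.AF.P2
import Cfsg.Agent.AF.FR
import Cfsg.Agent.DT.NA

set_option autoImplicit false
set_option linter.unusedSectionVars false

namespace Cfsg.Agent.AF

open Cfsg.Agent.DT (cm nor cen cj)
open Subgroup (zpowers)

variable {G : Type*} [Group G] [Finite G] {p q : ℕ} {X : Set G}

namespace P3Aux

theorem mem_of_pow (hp : p.Prime) (hq : q.Prime) (hpq : p ≠ q) {R H : Subgroup G} (hR : IsPGroup q R) {w : G}
    (hw : w ∈ R) (h : w ^ p ∈ H) : w ∈ H := by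
  obtain ⟨k, hk⟩ := hR ⟨w, hw⟩
  have hk' : w ^ q ^ k = 1 := congrArg Subtype.val hk
  have hc : p.Coprime (orderOf w) :=
    Nat.Coprime.coprime_dvd_right (orderOf_dvd_of_pow_eq_one hk')
      (Nat.Coprime.pow_right k ((Nat.coprime_primes hp hq).2 hpq))
  obtain ⟨m, hm⟩ := exists_pow_eq_self_of_coprime hc
  rw [← hm]
  exact pow_mem h m

theorem zp_pow {y c : G} (hyp : y ^ p = 1) (hc : c ∈ zpowers y) : c ^ p = 1 := by
  obtain ⟨k, rfl⟩ := Subgroup.mem_zpowers_iff.1 hc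
  rw [← zpow_natCast, ← zpow_mul, mul_comm, zpow_mul, zpow_natCast, hyp, one_zpow]

theorem pow_mem_of {A : Subgroup G} {y w : G} (hyp : y ^ p = 1) (hy : y ∈ nor A) (hw : w ∈ zpowers y ⊔ A) :
    w ^ p ∈ A := by
  have hz : zpowers y ≤ nor A := (Subgroup.zpowers_le).2 hy
  obtain ⟨c, hc, u, hu, rfl⟩ := (DT.mem_sup_nor hz).1 hw
  have key : ∀ k : ℕ, (c ^ k)⁻¹ * (c * u) ^ k ∈ A := by
    intro k
    induction k with
    | zero => simp
    | succ k ih =>
      have e : (c ^ (k + 1))⁻¹ * (c * u) ^ (k + 1) = c⁻¹ * ((c ^ k)⁻¹ * (c * u) ^ k) * c⁻¹⁻¹ * u := by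
        rw [pow_succ, pow_succ, mul_inv_rev, inv_inv]
        simp only [mul_assoc]
      rw [e]
      exact mul_mem ((DT.mem_nor.1 (inv_mem (hz hc)) _).1 ih) hu
  have := key p
  rwa [zp_pow hyp hc, inv_one, one_mul] at this

theorem comm_mem {R : Subgroup G} {y u : G} (hy : y ∈ nor R) (hu : u ∈ R) : u * y * u⁻¹ * y⁻¹ ∈ R := by
  have e : u * y * u⁻¹ * y⁻¹ = u * (y * u⁻¹ * y⁻¹) := by simp only [mul_assoc]
  rw [e]
  exact mul_mem hu ((DT.mem_nor.1 hy _).1 (inv_mem hu))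

theorem eq_one (hp : p.Prime) (hq : q.Prime) (hpq : p ≠ q) {R : Subgroup G} (hR : IsPGroup q R) {y u : G}
    (hyp : y ^ p = 1) (hy : y ∈ nor R) (hu : u ∈ R) (hb : u * y * u⁻¹ ∈ zpowers y) : u * y * u⁻¹ * y⁻¹ = 1 :=
  Subgroup.mem_bot.1 (mem_of_pow hp hq hpq hR (comm_mem hy hu) (Subgroup.mem_bot.2
    (zp_pow hyp (mul_mem hb (inv_mem (Subgroup.mem_zpowers y))))))

theorem mem_nor_qq {K : Subgroup G} {y : G} (hy : y ∈ K) : y ∈ nor (qq K) :=
  nor_le_nor_qq K (Subgroup.le_normalizer hy)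

end P3Aux

open P3Aux in
theorem Pr.hy {n : ℕ} (h : Pr p n X) (hp2 : p ≠ 2)
    (hpw : ∀ y ∈ X, ∀ a ∈ zpowers y, a ≠ 1 → a ∈ X) (hex : ∃ a ∈ X, ∃ b ∈ X, b ∉ zpowers a)
    (hd : (∀ a ∈ X, ∀ b ∈ X, b ∉ zpowers a → IsMulCommutative (qq (zpowers a ⊔ zpowers b))) ∨
      (∀ a ∈ X, ∀ b ∈ X, b ∉ zpowers a → ¬ IsMulCommutative (qq (zpowers a ⊔ zpowers b)))) :
    ∃ r : ℕ, Hy p r X := by
  obtain ⟨r, hr, hrp, hr2, hq⟩ := h.exists_q hex
  have hpr : p ≠ r := hrp.symm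
  have yp : ∀ y ∈ X, y ^ p = 1 := fun y hy => by rw [← h.ord y hy, pow_orderOf_eq_one]
  have yF : ∀ y b : G, y ∈ zpowers y ⊔ zpowers b := fun y b => Subgroup.mem_sup_left (Subgroup.mem_zpowers y)
  have bF : ∀ y b : G, b ∈ zpowers y ⊔ zpowers b := fun y b => Subgroup.mem_sup_right (Subgroup.mem_zpowers b)
  have key : (∀ y ∈ X, ∀ R : Subgroup G, IsPGroup r R → y ∈ nor R → ∀ z ∈ cm R y, Commute z y →
      ∀ b ∈ cm R y, Commute z b) ∧ (Flat r X ∨ Spec r X) := by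
    rcases hd with hd | hd
    · have hf : Flat r X := by
        intro y hy R hR hyR
        refine flat_of h.pp hr hp2 hpr (yp y hy) hR hyR fun u hu => ?_
        by_cases hb : u * y * u⁻¹ ∈ zpowers y
        · rw [eq_one h.pp hr hpr hR (yp y hy) hyR hu hb]
          exact Commute.one_left _
        · have hbX := h.conj y hy u
          have e := (h.struct0 hy hbX hb).1
          have hn := mem_nor_qq (yF y (u * y * u⁻¹))
          have hw : u * y * u⁻¹ * y⁻¹ ∈ qq (zpowers y ⊔ zpowers (u * y * u⁻¹)) := by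
            refine mem_of_pow h.pp hr hpr hR (comm_mem hyR hu) (pow_mem_of (yp y hy) hn ?_)
            rw [sup_comm, e]
            exact mul_mem (bF _ _) (inv_mem (yF _ _))
          have hw' := (DT.mem_nor.1 hn _).1 hw
          exact congrArg Subtype.val ((hd y hy _ hbX hb).is_comm.comm ⟨_, hw⟩ ⟨_, hw'⟩)
      refine ⟨fun y hy R hR hyR z hz hc b _ => ?_, Or.inl hf⟩
      rw [hf y hy R hR hyR z hz hc]
      exact Commute.one_left _
    · have h2 : ∀ y ∈ X, DT.H2 r y := by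
        intro y hy
        refine DT.h2_of_na h.pp hr hpr y (h.ord y hy) fun A hA hAc hyA u hu => ?_
        rw [DT.mem_cen]
        by_cases hb : u * y * u⁻¹ ∈ zpowers y
        · have e := eq_one h.pp hr hpr hA (yp y hy) hyA hu hb
          rw [mul_inv_eq_one, mul_inv_eq_iff_eq_mul] at e
          exact e
        · exfalso
          have hbX := h.conj y hy u
          have hle : zpowers y ⊔ zpowers (u * y * u⁻¹) ≤ zpowers y ⊔ A := by
            refine sup_le le_sup_left ((Subgroup.zpowers_le).2 ?_)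
            have e : u * y * u⁻¹ = (u * y * u⁻¹ * y⁻¹) * y := by rw [inv_mul_cancel_right]
            rw [e]
            exact mul_mem (Subgroup.mem_sup_right (comm_mem hyA hu))
              (Subgroup.mem_sup_left (Subgroup.mem_zpowers y))
          have hQ : qq (zpowers y ⊔ zpowers (u * y * u⁻¹)) ≤ A := fun w hw =>
            mem_of_pow h.pp hr hpr (hq y hy _ hbX hb) hw (pow_mem_of (yp y hy) hyA (hle (qq_le _ hw)))
          exact hd y hy _ hbX hb ⟨⟨fun a b => Subtype.ext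
            (congrArg Subtype.val (hAc.is_comm.comm ⟨a.1, hQ a.2⟩ ⟨b.1, hQ b.2⟩) :)⟩⟩
      exact ⟨fun y hy R hR hyR z hz hc => (h2 y hy R hR hyR z hz).2.2 hc,
        Or.inr fun y hy R hR hyR a ha => (h2 y hy R hR hyR a ha).2.1⟩
  refine ⟨r, h.pp, hr, hp2, hr2, hpr, h.ord, h.conj, hpw, fun y hy b hb => ?_,
    fun a ha b hb c hc hm hne => h.exch ha hb hc hm hne, key.1, key.2⟩
  by_cases hby : b ∈ zpowers y
  · refine ⟨⊥, IsPGroup.of_bot, ?_, Subgroup.mem_sup_right hby⟩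
    rw [DT.mem_nor]
    intro a
    rw [Subgroup.mem_bot, Subgroup.mem_bot, mul_inv_eq_one, mul_eq_left]
  · refine ⟨_, hq y hy b hb hby, mem_nor_qq (yF y b), ?_⟩
    rw [(h.struct0 hy hb hby).1]
    exact bF y b

end Cfsg.Agent.AF
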