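import Cfsg.Agent.AF.T1

set_option autoImplicit false
set_option linter.unusedSectionVars false

namespace Cfsg.Agent.AF

open Cfsg.Agent.DT (cm nor cen cj)
open Subgroup (zpowers)

variable {G : Type*} [Group G] [Finite G] {p q : ℕ} {X : Set G}

namespace Q1Aux

theorem map_eq (hq : q.Prime) {H : Type*} [Group H] [Finite H] (f : G →* H)
    (hf : Function.Surjective f) {R : Subgroup H} (hR : IsPGroup q R) {S : Subgroup G}
    (hS : S ≤ R.comap f) (hi : ¬ q ∣ S.relIndex (R.comap f)) : S.map f = R := by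
  haveI := Fact.mk hq
  refine le_antisymm (Subgroup.map_le_iff_le_comap.2 hS) (Subgroup.relIndex_eq_one.1 ?_)
  have d : (S.map f).relIndex R ∣ S.relIndex (R.comap f) := by
    conv_lhs => rw [← Subgroup.map_comap_eq_self_of_surjective hf R, ← Subgroup.relIndex_comap]
    exact Subgroup.relIndex_dvd_of_le_left _ (Subgroup.le_comap_map f S)
  obtain ⟨n, hn⟩ := hR.index ((S.map f).subgroupOf R)
  rcases n with _ | n
  · exact hn
  · exact absurd (((dvd_pow_self q n.succ_ne_zero).trans hn.symm.dvd).trans d) hi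

theorem exists_syl (hq : q.Prime) (K : Subgroup G) : ∃ S : Subgroup G, S ≤ K ∧ IsPGroup q S ∧
    ¬ q ∣ S.relIndex K ∧ ∀ T : Subgroup G, IsPGroup q T → T ≤ K → S ≤ T → T ≤ S := by
  haveI := Fact.mk hq
  obtain ⟨P⟩ : Nonempty (Sylow q K) := inferInstance
  have e : ((P : Subgroup K).map K.subtype).subgroupOf K = P :=
    Subgroup.comap_map_eq_self_of_injective K.subtype_injective _
  refine ⟨(P : Subgroup K).map K.subtype, Subgroup.map_subtype_le _, P.isPGroup'.map _, ?_,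
    fun T hT hTK hST t ht => ?_⟩
  · rw [Subgroup.relIndex, e]
    exact P.not_dvd_index
  · have h1 : T.subgroupOf K = P := P.is_maximal' hT.comap_subtype
      (Subgroup.map_le_iff_le_comap.1 hST)
    exact ⟨⟨t, hTK ht⟩, h1.le ht, rfl⟩

end Q1Aux

theorem lift_q (hq : q.Prime) (N : Subgroup G) [N.Normal] (hN : IsPGroup q N ∨ N ≤ Subgroup.center G)
    (y : G) {Rb : Subgroup (G ⧸ N)} (hR : IsPGroup q Rb) (hy : (QuotientGroup.mk y : G ⧸ N) ∈ nor Rb) :
    ∃ R : Subgroup G, IsPGroup q R ∧ y ∈ nor R ∧ R.map (QuotientGroup.mk' N) = Rb := by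
  let f := QuotientGroup.mk' N
  have hf : Function.Surjective f := QuotientGroup.mk'_surjective N
  have hyK : y ∈ nor (Rb.comap f) := DT.mem_nor.2 fun a => by
    rw [Subgroup.mem_comap, Subgroup.mem_comap, map_mul, map_mul, map_inv]
    exact DT.mem_nor.1 hy _
  rcases hN with hN | hN
  · refine ⟨Rb.comap f, hR.comap_of_ker_isPGroup f ?_, hyK,
      Subgroup.map_comap_eq_self_of_surjective hf Rb⟩
    rw [QuotientGroup.ker_mk']
    exact hN
  · obtain ⟨S, hSK, hS, hi, hmax⟩ := Q1Aux.exists_syl hq (Rb.comap f)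
    have e : S.map f = Rb := Q1Aux.map_eq hq f hf hR hSK hi
    have hKS : Rb.comap f ≤ nor S := fun g hg => by
      obtain ⟨s, hs, hsg⟩ : f g ∈ S.map f := e.ge hg
      have hn : s⁻¹ * g ∈ N := QuotientGroup.eq.1 hsg
      have h1 : s⁻¹ * g ∈ nor S := DT.mem_nor.2 fun a => by
        rw [← Subgroup.mem_center_iff.1 (hN hn) a, mul_inv_cancel_right]
      have h2 : g = s * (s⁻¹ * g) := by group
      rw [h2]
      exact mul_mem (Subgroup.le_normalizer hs) h1
    have hc : cj y S ≤ Rb.comap f := by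
      rintro _ ⟨a, ha, rfl⟩
      exact (DT.mem_nor.1 hyK a).1 (hSK ha)
    have hle : cj y S ≤ S := le_sup_left.trans (hmax (cj y S ⊔ S)
      (DT.sup_pgroup (hS.map _) hS (hc.trans hKS)) (sup_le hc hSK) le_sup_right)
    refine ⟨S, hS, DT.cj_eq_self_iff.1 ?_, e⟩
    exact Subgroup.eq_of_le_of_card_ge hle (DT.card_cj y S).ge

theorem map_cm (N : Subgroup G) [N.Normal] (R : Subgroup G) (y : G) :
    (cm R y).map (QuotientGroup.mk' N) =
      cm (R.map (QuotientGroup.mk' N)) (QuotientGroup.mk y : G ⧸ N) := by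
  rw [Subgroup.map_commutator, MonoidHom.map_zpowers]
  rfl

theorem lift_fix (hp : p.Prime) (hq : q.Prime) (hpq : p ≠ q) (N : Subgroup G) [N.Normal] {y : G}
    (hyp : y ^ p = 1) {Q : Subgroup G} (hQ : IsPGroup q Q) (hy : y ∈ nor Q) {a : G} (ha : a ∈ Q)
    (hc : Commute (QuotientGroup.mk a : G ⧸ N) (QuotientGroup.mk y)) :
    ∃ c ∈ Q, Commute c y ∧ (QuotientGroup.mk c : G ⧸ N) = QuotientGroup.mk a := by
  let f := QuotientGroup.mk' N
  let W := Q ⊓ (cen (f y)).comap f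
  have yW : y ∈ nor W := DT.nor_inf_le_nor_inf _ _
    ⟨hy, Subgroup.le_normalizer (DT.mem_cen.2 (Commute.refl _) : f y ∈ cen (f y))⟩
  have WN : cm W y ≤ N := DT.cm_le_of (by rw [nor, Subgroup.normalizer_eq_top]; trivial)
    fun w hw => by
      rw [← QuotientGroup.eq_one_iff]
      change f _ = 1
      rw [map_mul, map_mul, map_mul, map_inv, map_inv, (DT.mem_cen.1 hw.2).eq]
      group
  obtain ⟨a', ha', c, hc', cy, rfl⟩ := DT.cop_decomp hp hq hpq (hQ.to_le inf_le_left) hyp yW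
    (r := a) ⟨ha, DT.mem_cen.2 hc⟩
  have z : f a' = 1 := (QuotientGroup.eq_one_iff _).2 (WN ha')
  refine ⟨c, hc'.1, cy, ?_⟩
  change f c = f (a' * c)
  rw [map_mul, z, one_mul]

theorem Hy.h2_quot (h : Hy p q X) (N : Subgroup G) [N.Normal]
    (hN : IsPGroup q N ∨ N ≤ Subgroup.center G) :
    ∀ y ∈ (QuotientGroup.mk' N) '' X, ∀ R : Subgroup (G ⧸ N), IsPGroup q R → y ∈ nor R →
      ∀ z ∈ cm R y, Commute z y → ∀ b ∈ cm R y, Commute z b := by
  rintro _ ⟨y, hy, rfl⟩ R hR hyR z hz hzy b hb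
  obtain ⟨S, hS, yS, rfl⟩ := lift_q h.qp N hN y hR hyR
  obtain ⟨a, ha, rfl⟩ := (map_cm N S y).ge hz
  obtain ⟨b, hb', rfl⟩ := (map_cm N S y).ge hb
  obtain ⟨c, hc, cy, e⟩ := lift_fix h.pp h.qp h.pq N (h.pow_eq hy) (hS.to_le (DT.cm_le yS))
    (DT.mem_nor_cm S y) ha hzy
  have e' : QuotientGroup.mk' N c = QuotientGroup.mk' N a := e
  rw [← e']
  exact (h.h2 y hy S hS yS c hc cy b hb').map _

theorem Hy.h4_quot (h : Hy p q X) (N : Subgroup G) [N.Normal]
    (hN : IsPGroup q N ∨ N ≤ Subgroup.center G) :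
    Flat q ((QuotientGroup.mk' N) '' X) ∨ Spec q ((QuotientGroup.mk' N) '' X) := by
  refine h.h4.imp (fun hf => ?_) fun hs => ?_
  · rintro _ ⟨y, hy, rfl⟩ R hR hyR z hz hzy
    obtain ⟨S, hS, yS, rfl⟩ := lift_q h.qp N hN y hR hyR
    obtain ⟨a, ha, rfl⟩ := (map_cm N S y).ge hz
    obtain ⟨c, hc, cy, e⟩ := lift_fix h.pp h.qp h.pq N (h.pow_eq hy) (hS.to_le (DT.cm_le yS))
      (DT.mem_nor_cm S y) ha hzy
    have e' : QuotientGroup.mk' N c = QuotientGroup.mk' N a := e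
    rw [← e', hf y hy S hS yS c hc cy, map_one]
  · rintro _ ⟨y, hy, rfl⟩ R hR hyR a ha b hb
    obtain ⟨S, hS, yS, rfl⟩ := lift_q h.qp N hN y hR hyR
    obtain ⟨a, ha', rfl⟩ := (map_cm N S y).ge ha
    obtain ⟨b, hb', rfl⟩ := (map_cm N S y).ge hb
    rw [← map_inv, ← map_inv, ← map_mul, ← map_mul, ← map_mul]
    exact (hs y hy S hS yS a ha' b hb').map _

end Cfsg.Agent.AF
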