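import Cfsg.Agent.AF.Q1

set_option autoImplicit false
set_option linter.unusedSectionVars false

namespace Cfsg.Agent.AF

open Cfsg.Agent.DT (cm nor cen cj)
open Subgroup (zpowers)

variable {G : Type*} [Group G] [Finite G] {p q : ℕ} {X : Set G}

/-- an element of order `p` of `R ⊔ ⟨y⟩` is conjugate under `R` into `⟨y⟩`. -/
theorem conj_of_mem (hp : p.Prime) (hq : q.Prime) (hpq : p ≠ q) {R : Subgroup G} (hR : IsPGroup q R)
    {y b : G} (hyp : y ^ p = 1) (hy : y ∈ nor R) (hb : b ∈ R ⊔ zpowers y) (hbp : b ^ p = 1) :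
    ∃ u ∈ R, ∃ a ∈ zpowers y, b = u * a * u⁻¹ := by
  have le : zpowers y ≤ nor R := Subgroup.zpowers_le.2 hy
  rw [sup_comm] at hb
  obtain ⟨a, ha, r, hr, e⟩ := (DT.mem_sup_nor le).1 hb
  have ap : a ^ p = 1 := by
    obtain ⟨i, rfl⟩ := ha
    rw [← zpow_natCast, ← zpow_mul, mul_comm, zpow_mul, zpow_natCast, hyp, one_zpow]
  obtain ⟨t, ht, e'⟩ := DT.cop_conj hp hq hpq hR ap hbp (le ha) (by rwa [e, inv_mul_cancel_left])
  exact ⟨t⁻¹, inv_mem (DT.cm_le (le ha) ht), a, ha, by rw [e', inv_inv]⟩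

theorem Hy.quot (h : Hy p q X) (N : Subgroup G) [N.Normal]
    (hN : IsPGroup q N ∨ N ≤ Subgroup.center G) (hy : ∀ y ∈ X, y ∉ N) :
    Hy p q ((QuotientGroup.mk' N) '' X) := by
  haveI : Fact p.Prime := ⟨h.pp⟩
  set φ := QuotientGroup.mk' N with hφ
  have pw : ∀ y ∈ X, φ y ^ p = 1 := fun y m => by rw [← map_pow, ← h.ord y m, pow_orderOf_eq_one, map_one]
  have ms : ∀ {A : Subgroup G} {a b : G}, b ∈ A ⊔ zpowers a → φ b ∈ A.map φ ⊔ zpowers (φ a) := fun {A a b} m => by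
    rw [← MonoidHom.map_zpowers, ← Subgroup.map_sup]
    exact ⟨b, m, rfl⟩
  have mn : ∀ {A : Subgroup G} {a : G}, a ∈ nor A → φ a ∈ nor (A.map φ) := fun {A a} m =>
    Subgroup.le_normalizer_map φ ⟨a, m, rfl⟩
  refine ⟨h.pp, h.qp, h.p2, h.q2, h.pq, ?_, ?_, ?_, ?_, ?_, h.h2_quot N hN, h.h4_quot N hN⟩
  · rintro _ ⟨y, m, rfl⟩
    exact orderOf_eq_prime (pw y m) fun e => hy y m ((QuotientGroup.eq_one_iff y).1 e)
  · rintro _ ⟨y, m, rfl⟩ g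
    obtain ⟨g, rfl⟩ := QuotientGroup.mk'_surjective N g
    exact ⟨_, h.conj y m g, by rw [map_mul, map_mul, map_inv]⟩
  · rintro _ ⟨y, m, rfl⟩ _ ⟨i, rfl⟩ e
    exact ⟨y ^ i, h.pw y m _ ⟨i, rfl⟩ fun e' => e (by simp only [← map_zpow, e', map_one]), map_zpow φ y i⟩
  · rintro _ ⟨y, m, rfl⟩ _ ⟨b, m', rfl⟩
    obtain ⟨R, h1, h2, h3⟩ := h.h1 y m b m'
    exact ⟨R.map φ, h1.map φ, mn h2, ms h3⟩
  · rintro _ ⟨a, ma, rfl⟩ _ ⟨b, mb, rfl⟩ _ ⟨c, mc, rfl⟩ k1 k2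
    obtain ⟨R, h1, h2, h3⟩ := h.h1 a ma b mb
    have aF : zpowers a ≤ zpowers a ⊔ zpowers b := le_sup_left
    have bF : b ∈ zpowers a ⊔ zpowers b := Subgroup.mem_sup_right (Subgroup.mem_zpowers b)
    have bR : b ∈ (R ⊓ (zpowers a ⊔ zpowers b)) ⊔ zpowers a := by
      rw [sup_comm] at h3
      obtain ⟨a', ha', r, hr, e⟩ := (DT.mem_sup_nor (Subgroup.zpowers_le.2 h2)).1 h3
      have : r ∈ zpowers a ⊔ zpowers b := (mul_mem_cancel_left (aF ha')).1 (e ▸ bF)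
      have := mul_mem (Subgroup.mem_sup_right ha' : a' ∈ (R ⊓ (zpowers a ⊔ zpowers b)) ⊔ zpowers a)
        (Subgroup.mem_sup_left ⟨hr, this⟩)
      rwa [← e] at this
    have cR : φ c ∈ (R ⊓ (zpowers a ⊔ zpowers b)).map φ ⊔ zpowers (φ a) :=
      (sup_le le_sup_right (Subgroup.zpowers_le.2 (ms bR)) : zpowers (φ a) ⊔ zpowers (φ b) ≤ _) k1
    obtain ⟨_, ⟨u, hu, rfl⟩, _, ⟨i, rfl⟩, e⟩ := conj_of_mem h.pp h.qp h.pq (h1.to_inf_left.map φ) (pw a ma)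
      (mn (DT.nor_inf_le_nor_inf _ _ ⟨h2, Subgroup.le_normalizer (aF (Subgroup.mem_zpowers a))⟩)) cR (pw c mc)
    have e' : φ c = φ (u * a ^ i * u⁻¹) := by rw [e, map_mul, map_mul, map_inv, map_zpow]
    have n1 : u * a ^ i * u⁻¹ ∉ zpowers a := fun m => k2 (by
      rw [e', ← MonoidHom.map_zpowers]
      exact ⟨_, m, rfl⟩)
    have n2 : a ^ i ≠ 1 := fun z => n1 (by rw [z]; simp)
    have := ms (h.h3 a ma b mb _ (h.conj _ (h.pw a ma _ ⟨i, rfl⟩ n2) u)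
      (mul_mem (mul_mem hu.2 (aF ⟨i, rfl⟩)) (inv_mem hu.2)) n1)
    rwa [MonoidHom.map_zpowers, ← e'] at this

end Cfsg.Agent.AF
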