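import Cfsg.Agent.AF.Q2

set_option autoImplicit false
set_option linter.unusedSectionVars false

namespace Cfsg.Agent.AF

open Cfsg.Agent.DT (cm nor cen cj)
open Subgroup (zpowers)

variable {G : Type*} [Group G] [Finite G] {p q : ℕ} {X : Set G}

namespace RedAux

theorem pt (h : Hy p q X) {y b : G} (hy : y ∈ X) (hb : b ∈ X) : ∃ u : G, ∃ a ∈ zpowers y, b = u * a * u⁻¹ := by
  obtain ⟨R, h1, h2, h3⟩ := h.h1 y hy b hb
  obtain ⟨u, -, a, ha, e⟩ := conj_of_mem h.pp h.qp h.pq h1 (h.pow_eq hy) h2 h3 (h.pow_eq hb)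
  exact ⟨u, a, ha, e⟩

theorem dec (N : Subgroup G) [N.Normal] {H : Subgroup G} {u : G}
    (h : (QuotientGroup.mk' N) u ∈ H.map (QuotientGroup.mk' N)) : ∃ a ∈ H, ∃ n ∈ N, u = a * n := by
  obtain ⟨a, ha, e⟩ := h
  exact ⟨a, ha, a⁻¹ * u, QuotientGroup.eq.1 e, by group⟩

theorem lift (hq : q.Prime) (N : Subgroup G) [N.Normal] (hN : N ≤ Subgroup.center G) {Qb : Subgroup (G ⧸ N)}
    (hn : Qb.Normal) (hQ : IsPGroup q Qb) :
    ∃ Q : Subgroup G, Q.Normal ∧ IsPGroup q Q ∧ Q.map (QuotientGroup.mk' N) = Qb := by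
  obtain ⟨R0, h1, -, h2⟩ := lift_q hq N (Or.inr hN) 1 hQ (Subgroup.one_mem _)
  obtain ⟨R, ⟨hR, hm⟩, hmax⟩ := Set.Finite.exists_maximal (s := {R : Subgroup G | IsPGroup q R ∧
    R.map (QuotientGroup.mk' N) = Qb}) (Set.toFinite _) ⟨R0, h1, h2⟩
  refine ⟨R, ⟨fun a ha g => ?_⟩, hR, hm⟩
  have h3 : (cj g R).map (QuotientGroup.mk' N) ≤ Qb := by
    rintro _ ⟨_, ⟨b, hb, rfl⟩, rfl⟩
    have := hn.conj_mem _ (hm ▸ Subgroup.mem_map_of_mem (QuotientGroup.mk' N) hb) (QuotientGroup.mk' N g)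
    simpa using this
  have h4 : cj g R ≤ nor R := fun b hb => by
    obtain ⟨c, hc, n, hn', rfl⟩ := dec N (H := R) (hm ▸ h3 (Subgroup.mem_map_of_mem _ hb))
    exact Subgroup.mul_mem _ (Subgroup.le_normalizer hc) (Subgroup.center_le_normalizer _ (hN hn'))
  have h5 : cj g R ⊔ R ≤ R := hmax ⟨DT.sup_pgroup (hR.map _) hR h4, by
    rw [Subgroup.map_sup, hm, sup_eq_right.2 h3]⟩ le_sup_right
  exact h5 (Subgroup.mem_sup_left ⟨a, ha, rfl⟩)

end RedAux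

open RedAux

theorem Hy.good_of_quot (h : Hy p q X) (hg : Subgroup.closure X = ⊤) (N : Subgroup G) [N.Normal]
    (hN : IsPGroup q N ∨ N ≤ Subgroup.center G) (hb : Good q ((QuotientGroup.mk' N) '' X)) :
    Good q X := by
  obtain ⟨Qb, hn, hQ, hy⟩ := hb
  have key : ∀ Q : Subgroup G, Q.map (QuotientGroup.mk' N) = Qb → ∀ y ∈ X, ∀ u : G,
      ∃ a ∈ Q ⊔ zpowers y, ∃ n ∈ N, u = a * n := fun Q hm y hyX u => dec N (by
    rw [Subgroup.map_sup, hm, MonoidHom.map_zpowers, hy _ ⟨y, hyX, rfl⟩]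
    trivial)
  rcases hN with hN | hN
  · refine ⟨Qb.comap (QuotientGroup.mk' N), hn.comap _, hQ.comap_of_ker_isPGroup _ (by rwa [QuotientGroup.ker_mk']),
      fun y hyX => eq_top_iff.2 fun u _ => ?_⟩
    obtain ⟨a, ha, n, hn', rfl⟩ :=
      key _ (Subgroup.map_comap_eq_self_of_surjective (QuotientGroup.mk'_surjective N) Qb) y hyX u
    refine Subgroup.mul_mem _ ha (Subgroup.mem_sup_left ?_)
    rw [Subgroup.mem_comap, QuotientGroup.mk'_apply, (QuotientGroup.eq_one_iff n).2 hn']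
    exact Qb.one_mem
  · obtain ⟨Q, h1, h2, h3⟩ := lift h.qp N hN hn hQ
    refine ⟨Q, h1, h2, fun y hyX => eq_top_iff.2 (hg ▸ (Subgroup.closure_le _).2 fun b hb => ?_)⟩
    obtain ⟨u, a, ha, rfl⟩ := pt h hyX hb
    obtain ⟨c, hc, n, hn', rfl⟩ := key Q h3 y hyX u
    rw [show c * n * a * (c * n)⁻¹ = c * a * c⁻¹ by
      rw [mul_assoc c n, ← Subgroup.mem_center_iff.1 (hN hn') a]; group]
    exact Subgroup.mul_mem _ (Subgroup.mul_mem _ hc (Subgroup.mem_sup_right ha)) (Subgroup.inv_mem _ hc)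

theorem Hy.good_of_mem (h : Hy p q X) (hg : Subgroup.closure X = ⊤) (N : Subgroup G)
    (hN : IsPGroup q N ∨ N ≤ Subgroup.center G) {y : G} (hy : y ∈ X) (hyN : y ∈ N) :
    Good q X := by
  rcases hN with hN | hN
  · exact absurd (h.q_inf hy hN hyN (Subgroup.mem_zpowers y)) (h.ne_one hy)
  · have h1 : ∀ b ∈ X, b ∈ zpowers y := fun b hb => by
      obtain ⟨u, a, ha, rfl⟩ := pt h hy hb
      rwa [Subgroup.mem_center_iff.1 (Subgroup.zpowers_le.2 (hN hyN) ha) u, mul_inv_cancel_right]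
    refine ⟨⊥, inferInstance, IsPGroup.of_bot, fun b hb => ?_⟩
    rw [bot_sup_eq, h.zp_eq hy (h1 b hb) (h.ne_one hb), eq_top_iff, ← hg]
    exact (Subgroup.closure_le _).2 h1

end Cfsg.Agent.AF
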