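import Cfsg.Agent.AF.T1

set_option autoImplicit false
set_option linter.unusedSectionVars false

namespace Cfsg.Agent.AF

open Cfsg.Agent.DT (cm nor cen cj)
open Subgroup (zpowers)

variable {G : Type*} [Group G] [Finite G] {p q : ℕ} {X : Set G}

namespace T2Aux

open Cfsg.Agent.DT

theorem dec {T : Subgroup G} {y g : G} (hy : y ∈ nor T) (hg : g ∈ T ⊔ zpowers y) :
    ∃ u ∈ T, ∃ a ∈ zpowers y, g = u * a := by
  have hn : zpowers y ≤ nor T := Subgroup.zpowers_le.2 hy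
  rw [sup_comm] at hg
  obtain ⟨a, ha, b, hb, rfl⟩ := (mem_sup_nor hn).1 hg
  exact ⟨a * b * a⁻¹, (mem_nor.1 (hn ha) b).1 hb, a, ha, by group⟩

theorem pts (h : Hy p q X) {T : Subgroup G} (hT : IsPGroup q T) {y b : G} (hy : y ∈ X)
    (hn : y ∈ nor T) (hb : b ∈ X) (hb' : b ∈ T ⊔ zpowers y) :
    ∃ u ∈ cm T y, ∃ a ∈ zpowers y, b = u * a * u⁻¹ := by
  obtain ⟨t, ht, a, ha, e⟩ := dec hn hb'
  have an : a ∈ nor T := Subgroup.zpowers_le.2 hn ha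
  have ap : a ^ p = 1 := by
    obtain ⟨n, rfl⟩ := Subgroup.mem_zpowers_iff.1 ha
    rw [← zpow_natCast, ← zpow_mul, mul_comm, zpow_mul, zpow_natCast, h.pow_eq hy, one_zpow]
  obtain ⟨u, hu, e'⟩ := cop_conj h.pp h.qp h.pq hT ap (h.pow_eq hb) an (by
    have := (mem_nor.1 (inv_mem an) t).1 ht
    rwa [inv_inv, mul_assoc, ← e] at this)
  exact ⟨u⁻¹, inv_mem (Subgroup.commutator_mono le_rfl (Subgroup.zpowers_le.2 ha) hu), a, ha,
    by rw [inv_inv]; exact e'⟩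

theorem key (h : Hy p q X) {T L : Subgroup G} (hT : IsPGroup q T) (hn : sp X L ≤ nor T) {y : G}
    (hy : y ∈ X) (hyL : y ∈ L) (e : T ⊔ zpowers y = sp X L) : th X L = T ∧ cm T y = T := by
  have yn : y ∈ nor T := hn (mem_sp hy hyL)
  have zn : zpowers y ≤ nor T := Subgroup.zpowers_le.2 yn
  have h1 : sp X L ≤ cm T y ⊔ zpowers y := sp_le_of fun b hb hbL => by
    obtain ⟨u, hu, a, ha, rfl⟩ := pts h hT hy yn hb (e.ge (mem_sp hb hbL))
    exact mul_mem (mul_mem (Subgroup.mem_sup_left hu) (Subgroup.mem_sup_right ha))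
      (inv_mem (Subgroup.mem_sup_left hu))
  have h2 : T ≤ cm T y := fun t ht => by
    obtain ⟨v, hv, a, ha, rfl⟩ := dec (mem_nor_cm T y) (h1 (e.le (Subgroup.mem_sup_left ht)))
    rw [h.q_inf hy hT ((T.mul_mem_cancel_left (cm_le yn hv)).1 ht) ha, mul_one]
    exact hv
  refine ⟨le_antisymm (Subgroup.commutator_le.2 fun g1 hg1 g2 hg2 => ?_)
    (h2.trans (Subgroup.commutator_mono (le_sup_left.trans e.le) (le_sup_right.trans e.le))),
    le_antisymm (cm_le yn) h2⟩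
  obtain ⟨u1, hu1, a1, ha1, rfl⟩ := dec yn (e.ge hg1)
  obtain ⟨u2, hu2, a2, ha2, rfl⟩ := dec yn (e.ge hg2)
  have c : a1 * a2 = a2 * a1 := by
    obtain ⟨n, rfl⟩ := Subgroup.mem_zpowers_iff.1 ha1
    obtain ⟨m, rfl⟩ := Subgroup.mem_zpowers_iff.1 ha2
    exact (Commute.zpow_zpow_self y n m).eq
  have k := mul_mem (mul_mem (mul_mem hu1 ((mem_nor.1 (zn ha1) u2).1 hu2))
    ((mem_nor.1 (zn ha2) u1⁻¹).1 (inv_mem hu1))) (inv_mem hu2)
  convert k using 1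
  calc _ = u1 * a1 * u2 * a1⁻¹ * (a1 * a2) * a1⁻¹ * u1⁻¹ * a2⁻¹ * u2⁻¹ := by
        rw [commutatorElement_def]; group
    _ = _ := by rw [c]; group

end T2Aux

theorem Cx.th_pgroup (C : Cx p q X) {L : Subgroup G} (hL : L ≠ ⊤) : IsPGroup q (th X L) := by
  obtain ⟨T, hT, -, hn, e⟩ := C.loc L hL
  by_cases k : ∃ y ∈ X, y ∈ L
  · obtain ⟨y, hy, hyL⟩ := k
    rw [(T2Aux.key C.toHy hT hn hy hyL (e y hy hyL)).1]
    exact hT
  · exact hT.to_le ((qq_le _).trans (sp_le_of fun y hy hyL => absurd ⟨y, hy, hyL⟩ k))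

theorem Cx.sp_eq (C : Cx p q X) {L : Subgroup G} (hL : L ≠ ⊤) {y : G} (hy : y ∈ X) (hyL : y ∈ L) :
    th X L ⊔ zpowers y = sp X L := by
  obtain ⟨T, hT, -, hn, e⟩ := C.loc L hL
  rw [(T2Aux.key C.toHy hT hn hy hyL (e y hy hyL)).1]
  exact e y hy hyL

theorem Cx.sp_decomp (C : Cx p q X) {L : Subgroup G} (hL : L ≠ ⊤) {y : G} (hy : y ∈ X)
    (hyL : y ∈ L) {g : G} (hg : g ∈ sp X L) : ∃ u ∈ th X L, ∃ a ∈ zpowers y, g = u * a :=
  T2Aux.dec (C.toHy.le_nor_th L hyL) ((C.sp_eq hL hy hyL).ge hg)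

theorem Cx.pts (C : Cx p q X) {L : Subgroup G} (hL : L ≠ ⊤) {y b : G} (hy : y ∈ X) (hyL : y ∈ L)
    (hb : b ∈ X) (hbL : b ∈ L) : ∃ u ∈ th X L, ∃ a ∈ zpowers y, b = u * a * u⁻¹ := by
  obtain ⟨u, hu, k⟩ := T2Aux.pts C.toHy (C.th_pgroup hL) hy (C.toHy.le_nor_th L hyL) hb
    ((C.sp_eq hL hy hyL).ge (mem_sp hb hbL))
  exact ⟨u, DT.cm_le (C.toHy.le_nor_th L hyL) hu, k⟩

theorem Cx.th_cm (C : Cx p q X) {L : Subgroup G} (hL : L ≠ ⊤) {y : G} (hy : y ∈ X) (hyL : y ∈ L) :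
    cm (th X L) y = th X L := by
  obtain ⟨T, hT, -, hn, e⟩ := C.loc L hL
  obtain ⟨e1, e2⟩ := T2Aux.key C.toHy hT hn hy hyL (e y hy hyL)
  rw [e1, e2]

theorem Cx.q_mem_th (C : Cx p q X) {L : Subgroup G} (hL : L ≠ ⊤) {u : G} (hu : u ∈ sp X L) {k : ℕ}
    (hk : u ^ q ^ k = 1) : u ∈ th X L := by
  by_cases h : ∃ y ∈ X, y ∈ L
  · obtain ⟨y, hy, hyL⟩ := h
    obtain ⟨t, ht, a, ha, e⟩ := C.sp_decomp hL hy hyL hu
    have h1 : IsPGroup q (zpowers u) := fun g => ⟨k, Subtype.ext (by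
      obtain ⟨n, hn⟩ := Subgroup.mem_zpowers_iff.1 g.2
      rw [Subgroup.coe_pow, ← hn, ← zpow_natCast, ← zpow_mul, mul_comm, zpow_mul, zpow_natCast, hk,
        one_zpow]
      rfl)⟩
    have h2 := DT.sup_pgroup h1 (C.th_pgroup hL)
      (Subgroup.zpowers_le.2 (C.toHy.le_nor_th L (sp_le X L hu)))
    have h3 : a = 1 := C.toHy.q_inf hy h2 (by
      rw [show a = t⁻¹ * u by rw [e, inv_mul_cancel_left]]
      exact mul_mem (inv_mem (Subgroup.mem_sup_right ht))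
        (Subgroup.mem_sup_left (Subgroup.mem_zpowers u))) ha
    rwa [e, h3, mul_one]
  · exact sp_le_of (fun y hy hyL => absurd ⟨y, hy, hyL⟩ h) hu

theorem Cx.cm_le_th (C : Cx p q X) {L R : Subgroup G} (hL : L ≠ ⊤) {y : G} (hy : y ∈ X)
    (hyL : y ∈ L) (hRL : R ≤ L) (hR : IsPGroup q R) (hyR : y ∈ nor R) : cm R y ≤ th X L :=
  DT.cm_le_of (C.toHy.le_nor_th L hyL) fun r hr => by
    obtain ⟨k, hk⟩ := hR ⟨_, DT.cm_le hyR (DT.comm_mem_cm y hr).1⟩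
    exact C.q_mem_th hL (mul_mem (mem_sp (C.conj y hy r)
      (mul_mem (mul_mem (hRL hr) hyL) (inv_mem (hRL hr)))) (inv_mem (mem_sp hy hyL)))
      (k := k) (congrArg Subtype.val hk)

theorem Cx.odd_sp (C : Cx p q X) {L : Subgroup G} (hL : L ≠ ⊤) : Odd (Nat.card (sp X L)) := by
  rw [← Nat.not_even_iff_odd, even_iff_two_dvd]
  intro h2
  haveI : Fact (Nat.Prime 2) := ⟨Nat.prime_two⟩
  obtain ⟨⟨s, hs⟩, o⟩ := exists_prime_orderOf_dvd_card' 2 h2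
  rw [← Subgroup.orderOf_coe] at o
  replace o : orderOf s = 2 := o
  have h1 : s ∈ th X L := by
    by_cases h : ∃ y ∈ X, y ∈ L
    · obtain ⟨y, hy, hyL⟩ := h
      obtain ⟨u, hu, a, ha, e⟩ := C.sp_decomp hL hy hyL hs
      have an : a ∈ nor (th X L) := Subgroup.zpowers_le.2 (C.toHy.le_nor_th L hyL) ha
      have e1 : a ^ 2 = (u * (a * u * a⁻¹))⁻¹ := by
        have := pow_orderOf_eq_one s
        rw [o, e] at this
        calc a ^ 2 = (u * (a * u * a⁻¹))⁻¹ * (u * a) ^ 2 := by rw [pow_two, pow_two]; group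
          _ = _ := by rw [this, mul_one]
      have e2 : a ^ 2 = 1 := C.toHy.q_inf hy (C.th_pgroup hL)
        (e1 ▸ inv_mem (mul_mem hu ((DT.mem_nor.1 an u).1 hu))) (pow_mem ha 2)
      have e3 : a = 1 := by
        by_contra a1
        have := orderOf_dvd_of_pow_eq_one e2
        rw [C.ord a (C.pw y hy a ha a1)] at this
        exact C.p2 ((Nat.prime_dvd_prime_iff_eq C.pp Nat.prime_two).1 this)
      rwa [e, e3, mul_one]
    · exact sp_le_of (fun y hy hyL => absurd ⟨y, hy, hyL⟩ h) hs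
  obtain ⟨k, hk⟩ := C.th_pgroup hL ⟨s, h1⟩
  have := orderOf_dvd_of_pow_eq_one (show s ^ q ^ k = 1 from congrArg Subtype.val hk)
  rw [o] at this
  exact C.q2 ((Nat.prime_dvd_prime_iff_eq Nat.prime_two C.qp).1
    (Nat.prime_two.dvd_of_dvd_pow this)).symm

theorem Cx.central (C : Cx p q X) {L : Subgroup G} (hL : L ≠ ⊤) {y : G} (hy : y ∈ X) (hyL : y ∈ L)
    {z : G} (hz : z ∈ th X L) (hc : Commute z y) : z ∈ zz (sp X L) := by
  refine mem_zz.2 ⟨hz, fun g hg => ?_⟩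
  obtain ⟨u, hu, a, ha, rfl⟩ := C.sp_decomp hL hy hyL hg
  obtain ⟨n, rfl⟩ := Subgroup.mem_zpowers_iff.1 ha
  have e := C.th_cm hL hy hyL
  exact (C.h2 y hy _ (C.th_pgroup hL) (C.toHy.le_nor_th L hyL) z (e.ge hz) hc u (e.ge hu)).mul_right
    (hc.zpow_right n)

end Cfsg.Agent.AF
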